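import Groth.Agent.Lib.TFSimple15.Main
import Groth.Agent.Lib.SubCurve16.Push
import Groth.Agent.Lib.ClosedHom20.Basic
import Groth.Agent.Lib.Torus17.Gen
import Groth.Agent.Lib.QCoh.ClosedImmersion

/-!
Simplicity of torsion-free rank one sheaves glued from simple sheaves on subcurves.
-/

set_option autoImplicit false
set_option linter.style.haveILetI false
set_option backward.isDefEq.respectTransparency false

universe u

open CategoryTheory CategoryTheory.Limits AlgebraicGeometry TopologicalSpace Opposite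
open GrothLib.QCoh (stalkLin)

noncomputable section

namespace GrothLib.TFSimple15

variable {k : Type u} [Field k] {X : Scheme.{u}} [X.Over (Spec (CommRingCat.of k))] [IsReduced X]

omit [X.Over (Spec (CommRingCat.of k))] in
/-- A scalar killing a non-zero vector of a generic stalk is zero. -/
theorem eq_zero_of_smul {η : X} (hη : η ∈ genericPoints (X : Type u)) {M : X.Modules}
    {r : X.presheaf.stalk η} {v : M.presheaf.stalk η} (hv : v ≠ 0) (h : r • v = 0) : r = 0 := by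
  by_contra hr
  obtain ⟨s, hs⟩ := (GrothLib.SubCurve16.isField_stalk hη).mul_inv_cancel hr
  apply hv
  rw [← one_smul (X.presheaf.stalk η) v, ← hs, mul_comm, mul_smul, h, smul_zero]

omit [IsReduced X] in
/-- A generic point of a union of components of the scheme is a generic point of the scheme. -/
theorem mem_genericPoints_of_subsch {Z : Set X} (hZ : IsClosed Z) (hZs : VecSt.IsSubcurve X Z)
    {w : VecSt.subsch X Z hZ} (hw : ∀ z, z ⤳ w → z = w) :
    VecSt.subschι X Z hZ w ∈ genericPoints (X : Type u) := by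
  let ι := VecSt.subschι X Z hZ
  have hr : Set.range ι = Z := Scheme.IdealSheafData.range_subschemeι _
  obtain ⟨𝒮, h𝒮, -, hZeq⟩ := hZs
  obtain ⟨D, hD, hwD⟩ : ι w ∈ ⋃₀ 𝒮 := by exact hZeq.le (hr.le (Set.mem_range_self w))
  have hDc := isClosed_of_mem_irreducibleComponents D (h𝒮 hD)
  obtain ⟨ζ, hζ⟩ := QuasiSober.sober (h𝒮 hD).1 hDc
  obtain ⟨ζ', hζ'⟩ : ζ ∈ Set.range ι := by rw [hr, hZeq]; exact ⟨D, hD, hζ.mem⟩
  have hs : ζ' ⤳ w := ι.isClosedEmbedding.isInducing.specializes_iff.1 (hζ'.symm ▸ hζ.specializes hwD)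
  have := hw ζ' hs
  rw [this] at hζ'
  rw [hζ']
  show closure {ζ} ∈ irreducibleComponents (X : Type u)
  rw [hζ.def]
  exact h𝒮 hD

omit [IsReduced X] in
/-- The direct image of a torsion-free sheaf on a subcurve is detected at the generic points. -/
theorem detect_push_tf {Z : Set X} (hZ : IsClosed Z) (hZs : VecSt.IsSubcurve X Z) [IsLocallyNoetherian X]
    [IsReduced (VecSt.subsch X Z hZ)] {J : (VecSt.subsch X Z hZ).Modules} [J.IsQuasicoherent]
    (hJ : TorSh.IsTorsionFree J) :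
    GrothLib.SubCurve16.Detect ((Scheme.Modules.pushforward (VecSt.subschι X Z hZ)).obj J)
      (genericPoints (X : Type u)) := by
  intro U u hu
  let ι := VecSt.subschι X Z hZ
  haveI : IsLocallyNoetherian (VecSt.subsch X Z hZ) := LocallyOfFiniteType.isLocallyNoetherian ι
  refine TFCurve11.eq_zero_of_maximal_germ (W := ι ⁻¹ᵁ U) hJ (show Γ(J, ι ⁻¹ᵁ U) from u) fun w hw hmax => ?_
  have h1 := hu (ι w) hw (mem_genericPoints_of_subsch hZ hZs hmax)
  exact (QCoh.pushStalkHom_germ ι w J U hw u).symm.trans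
    ((congrArg (QCoh.pushStalkHom ι w J).hom h1).trans (map_zero _))

variable [IsProper (X ↘ Spec (CommRingCat.of k))]

/-- Simplicity from two simple quotients on subcurves with a common component. -/
theorem main_common
    (hgi : ∀ (C : Set X) (hC : C ∈ irreducibleComponents (X : Type u)),
      GeometricallyIntegral (VecSt.subschι X C (isClosed_of_mem_irreducibleComponents C hC) ≫
        (X ↘ Spec (CommRingCat.of k))))
    (M : X.Modules) (hM : TFOne.IsTF1 X M) (Y Z : Set X) (hcov : Y ∪ Z = Set.univ)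
    (hmeet : ∃ C ∈ irreducibleComponents (X : Type u), C ⊆ Y ∩ Z)
    (GY GZ : X.Modules) (πY : M ⟶ GY) (πZ : M ⟶ GZ)
    (hGY : TFOne.IsQuotOn X M Y GY πY) (hGZ : TFOne.IsQuotOn X M Z GZ πZ)
    (hsY : TFOne.IsSimple X k (X ↘ Spec (CommRingCat.of k)) GY)
    (hsZ : TFOne.IsSimple X k (X ↘ Spec (CommRingCat.of k)) GZ) :
    TFOne.IsSimple X k (X ↘ Spec (CommRingCat.of k)) M := by
  haveI := Euler.isNoetherian_of_proper (X := X) k
  haveI := hM.1.1
  obtain ⟨C, hC, hCYZ⟩ := hmeet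
  obtain ⟨η₀, hη₀⟩ := QuasiSober.sober hC.1 (isClosed_of_mem_irreducibleComponents C hC)
  have hη₀g : η₀ ∈ genericPoints (X : Type u) := by
    show closure {η₀} ∈ irreducibleComponents (X : Type u)
    rw [hη₀.def]; exact hC
  obtain ⟨e₀⟩ := hM.2.2 η₀ hη₀g
  refine ⟨fun hz => ?_, fun φ => ?_⟩
  · have h1 : stalkLin (𝟙 M) η₀ (e₀.symm 1) = stalkLin (0 : M ⟶ M) η₀ (e₀.symm 1) := by rw [hz.eq_of_src (𝟙 M) 0]
    rw [QCoh.stalkLin_id, stalkLin_zero] at h1
    exact one_ne_zero (e₀.symm.map_eq_zero_iff.1 h1)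
  choose χ hχ using fun η : genericPoints (X : Type u) => exists_scalar hgi hM η.2 φ
  have key : ∀ (W : Set X) (G : X.Modules) (π : M ⟶ G), TFOne.IsQuotOn X M W G π →
      TFOne.IsSimple X k (X ↘ Spec (CommRingCat.of k)) G →
      ∃ c : k, ∀ η : genericPoints (X : Type u), η.1 ∈ W → χ η = c := by
    intro W G π hG hs
    haveI := hG.2.1.1
    haveI : Epi π := hG.1
    have hker : kernel.ι π ≫ φ ≫ π = 0 := by
      refine hom_ext_generic k hG.2.2.1 _ _ fun η hη v => ?_
      rw [QCoh.stalkLin_comp, QCoh.stalkLin_comp, hχ ⟨η, hη⟩, map_smul, ← QCoh.stalkLin_comp (kernel.ι π) π,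
        kernel.condition, stalkLin_zero, smul_zero]
    obtain ⟨ψ, hψ⟩ : ∃ ψ : G ⟶ G, π ≫ ψ = φ ≫ π :=
      ⟨Abelian.epiDesc π (φ ≫ π) hker, Abelian.comp_epiDesc π _ _⟩
    obtain ⟨c, hc⟩ := hs.2 ψ
    refine ⟨c, fun η hη => ?_⟩
    obtain ⟨a, b, hab⟩ :=
      (not_subsingleton_iff_nontrivial.1 (show η.1 ∈ CohB1.support G from hG.2.2.2.symm ▸ hη)).exists_pair_ne
    obtain ⟨v, hv⟩ := QCoh.stalkLin_surjective π η.1 (a - b)
    have h1 := congrArg (fun f => stalkLin f η.1 v) hψ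
    simp only [QCoh.stalkLin_comp, hc, ← KLin.smul_id, stalkLin_smul, QCoh.stalkLin_id, hχ η, map_smul, hv] at h1
    refine (cstAt k η.1).injective (sub_eq_zero.1 (eq_zero_of_smul η.2 (sub_ne_zero.2 hab) ?_))
    rw [sub_smul, ← h1]
    exact sub_self _
  obtain ⟨cY, hcY⟩ := key Y GY πY hGY hsY
  obtain ⟨cZ, hcZ⟩ := key Z GZ πZ hGZ hsZ
  have hc : cY = cZ := (hcY ⟨η₀, hη₀g⟩ (hCYZ hη₀.mem).1).symm.trans (hcZ ⟨η₀, hη₀g⟩ (hCYZ hη₀.mem).2)
  refine ⟨cY, ?_⟩
  rw [← KLin.smul_id]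
  refine hom_ext_generic k hM.2.1 _ _ fun η hη v => ?_
  rw [hχ ⟨η, hη⟩, stalkLin_smul, QCoh.stalkLin_id]
  rcases (hcov ▸ Set.mem_univ η : η ∈ Y ∪ Z) with h | h
  · rw [hcY ⟨η, hη⟩ h]; rfl
  · rw [hcZ ⟨η, hη⟩ h, hc]; rfl

/-- Facts about the direct image of a torsion-free rank one sheaf on a subcurve. -/
theorem push_facts {Z : Set X} (hZ : IsClosed Z) (hZs : VecSt.IsSubcurve X Z)
    (J : (VecSt.subsch X Z hZ).Modules) (hJ : TFOne.IsTF1 (VecSt.subsch X Z hZ) J)
    (hJs : TFOne.IsSimple (VecSt.subsch X Z hZ) k (VecSt.subschι X Z hZ ≫ (X ↘ Spec (CommRingCat.of k))) J) :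
    GrothLib.SubCurve16.Detect ((Coh.push (VecSt.subschι X Z hZ)).obj J) (genericPoints (X : Type u)) ∧
    (∀ η ∈ genericPoints (X : Type u), η ∈ Z → ∃ v : ((Coh.push (VecSt.subschι X Z hZ)).obj J).presheaf.stalk η, v ≠ 0) ∧
    (∀ η, η ∉ Z → ∀ v : ((Coh.push (VecSt.subschι X Z hZ)).obj J).presheaf.stalk η, v = 0) ∧
    (∀ ψ : (Coh.push (VecSt.subschι X Z hZ)).obj J ⟶ (Coh.push (VecSt.subschι X Z hZ)).obj J,
      ∃ c : k, ψ = c • 𝟙 _) ∧
    ¬ IsZero ((Coh.push (VecSt.subschι X Z hZ)).obj J) := by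
  haveI := Euler.isNoetherian_of_proper (X := X) k
  let ι := VecSt.subschι X Z hZ
  have hr : Set.range ι = Z := Scheme.IdealSheafData.range_subschemeι _
  haveI : IsReduced (VecSt.subsch X Z hZ) := GrothLib.RedSub.isReduced_subscheme_vanishingIdeal _
  haveI := hJ.1.1
  letI : (VecSt.subsch X Z hZ).Over (Spec (CommRingCat.of k)) := ⟨ι ≫ (X ↘ Spec (CommRingCat.of k))⟩
  haveI : ι.IsOver (Spec (CommRingCat.of k)) := ⟨rfl⟩
  obtain ⟨hfull, hfaith⟩ := ClosedHom20.full_faithful_pushforward ι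
  refine ⟨detect_push_tf hZ hZs hJ.2.1, fun η hη hηZ => ?_, fun η hη v => ?_, fun ψ => ?_, fun h0 => ?_⟩
  · obtain ⟨η', rfl⟩ : η ∈ Set.range ι := hr.symm ▸ hηZ
    have hmax : η' ∈ genericPoints (VecSt.subsch X Z hZ : Type u) :=
      GrothLib.FinAff13.mem_genericPoints_iff.2 fun z hz =>
        ι.isClosedEmbedding.injective
          (GrothLib.FinAff13.mem_genericPoints_iff.1 hη _ (hz.map ι.continuous))
    obtain ⟨e⟩ := hJ.2.2 η' hmax
    obtain ⟨v, hv⟩ := (QCoh.pushStalkHom_bijective ι η' J ι.isClosedEmbedding.isInducing).2 (e.symm 1)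
    refine ⟨v, fun h0 => one_ne_zero (e.symm.map_eq_zero_iff.1 ?_)⟩
    rw [← hv, h0]
    exact map_zero _
  · have hsub : Subsingleton (((Coh.push ι).obj J).presheaf.stalk η) := by
      by_contra h
      exact hη (hr ▸ QCoh.support_pushforward_subset_range ι J (show η ∈ CohB1.support _ from h))
    exact @Subsingleton.elim _ hsub v 0
  · obtain ⟨ψ₀, rfl⟩ := (Scheme.Modules.pushforward ι).map_surjective ψ
    obtain ⟨c, hc⟩ := hJs.2 ψ₀
    refine ⟨c, ?_⟩
    rw [hc, ← KLin.smul_id]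
    exact (Functor.map_smul (Scheme.Modules.pushforward ι) c (𝟙 J)).trans
      (congrArg (c • ·) (CategoryTheory.Functor.map_id _ _))
  · refine hJs.1 ((IsZero.iff_id_eq_zero _).2 ((Scheme.Modules.pushforward ι).map_injective ?_))
    exact h0.eq_of_src _ _

/-- An extension of simple sheaves on two subcurves is simple iff it does not split. -/
theorem main_ext
    (hgi : ∀ (C : Set X) (hC : C ∈ irreducibleComponents (X : Type u)),
      GeometricallyIntegral (VecSt.subschι X C (isClosed_of_mem_irreducibleComponents C hC) ≫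
        (X ↘ Spec (CommRingCat.of k))))
    (Y Z : Set X) (hY : IsClosed Y) (hZ : IsClosed Z) (hYs : VecSt.IsSubcurve X Y) (hZs : VecSt.IsSubcurve X Z)
    (hcov : Y ∪ Z = Set.univ) (M : X.Modules) (hM : TFOne.IsTF1 X M)
    (I : (VecSt.subsch X Y hY).Modules) (hI : TFOne.IsTF1 (VecSt.subsch X Y hY) I)
    (hIs : TFOne.IsSimple (VecSt.subsch X Y hY) k (VecSt.subschι X Y hY ≫ (X ↘ Spec (CommRingCat.of k))) I)
    (J : (VecSt.subsch X Z hZ).Modules) (hJ : TFOne.IsTF1 (VecSt.subsch X Z hZ) J)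
    (hJs : TFOne.IsSimple (VecSt.subsch X Z hZ) k (VecSt.subschι X Z hZ ≫ (X ↘ Spec (CommRingCat.of k))) J)
    (a : (Coh.push (VecSt.subschι X Y hY)).obj I ⟶ M) (b : M ⟶ (Coh.push (VecSt.subschι X Z hZ)).obj J)
    (w : a ≫ b = 0) (hex : (ShortComplex.mk a b w).ShortExact) :
    TFOne.IsSimple X k (X ↘ Spec (CommRingCat.of k)) M ↔ ¬ IsSplitEpi b := by
  haveI := Euler.isNoetherian_of_proper (X := X) k
  obtain ⟨-, hIne, hIzero, hIend, hInz⟩ := push_facts hY hYs I hI hIs
  obtain ⟨hJdet, hJne, hJzero, hJend, hJnz⟩ := push_facts hZ hZs J hJ hJs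
  haveI : Mono a := hex.mono_f
  haveI : Epi b := hex.epi_g
  constructor
  · rintro ⟨-, hs⟩ ⟨⟨s⟩⟩
    obtain ⟨c, hc⟩ := hs (b ≫ s.section_)
    rw [← KLin.smul_id] at hc
    have h1 : c • a = 0 := by
      have h := congrArg (fun f => a ≫ f) hc
      simp only [reassoc_of% w, zero_comp, Linear.comp_smul, Category.comp_id] at h
      exact h.symm
    rcases smul_eq_zero.1 h1 with h | h
    · rw [h, zero_smul] at hc
      refine hJnz ((IsZero.iff_id_eq_zero _).2 ?_)
      rw [← cancel_epi b, comp_zero, Category.comp_id]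
      calc b = b ≫ s.section_ ≫ b := by rw [s.id, Category.comp_id]
        _ = 0 := by rw [← Category.assoc, hc, zero_comp]
    · refine hInz ((IsZero.iff_id_eq_zero _).2 ?_)
      rw [← cancel_mono a, Category.id_comp, zero_comp, h]
  · intro hns
    have hdisj : ∀ η ∈ genericPoints (X : Type u), η ∈ Y → η ∉ Z := by
      intro η hη hηY hηZ
      obtain ⟨v, hv⟩ := hIne η hη hηY
      obtain ⟨t, ht⟩ := hJne η hη hηZ
      obtain ⟨m, hm⟩ := QCoh.stalkLin_surjective b η t
      obtain ⟨e⟩ := hM.2.2 η hη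
      have hav : e (stalkLin a η v) ≠ 0 := fun h =>
        hv (QCoh.stalkLin_injective a η ((e.map_eq_zero_iff.1 h).trans (map_zero _).symm))
      obtain ⟨r, hr⟩ := (GrothLib.SubCurve16.isField_stalk hη).mul_inv_cancel hav
      have : m = (e m * r) • stalkLin a η v := e.injective (by
        rw [map_smul, smul_eq_mul, mul_assoc, mul_comm r, hr, mul_one])
      apply ht
      rw [← hm, this, map_smul, ← QCoh.stalkLin_comp, w, stalkLin_zero, smul_zero]
    refine ⟨fun hz => hJnz ((IsZero.iff_id_eq_zero _).2 (by rw [← cancel_epi b]; exact hz.eq_of_src _ _)),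
      fun φ => ?_⟩
    choose χ hχ using fun η : genericPoints (X : Type u) => exists_scalar hgi hM η.2 φ
    have hab : a ≫ φ ≫ b = 0 := hJdet.hom_eq_zero _ fun η hη v => by
      by_cases h : η ∈ Y
      · exact hJzero η (hdisj η hη h) _
      · rw [hIzero η h v, map_zero]
    obtain ⟨ψI, hψI⟩ : ∃ ψ, ψ ≫ a = a ≫ φ :=
      ⟨hex.fIsKernel.lift (KernelFork.ofι (a ≫ φ) (by simpa using hab)), Fork.IsLimit.lift_ι _⟩
    obtain ⟨ψJ, hψJ⟩ : ∃ ψ, b ≫ ψ = φ ≫ b :=
      let l := CokernelCofork.IsColimit.desc' hex.gIsCokernel (φ ≫ b) hab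
      ⟨l.1, l.2⟩
    obtain ⟨cI, rfl⟩ := hIend ψI
    obtain ⟨cJ, rfl⟩ := hJend ψJ
    rw [Linear.smul_comp, Category.id_comp] at hψI
    rw [Linear.comp_smul, Category.comp_id] at hψJ
    by_cases hIJ : cI = cJ
    · subst hIJ
      refine ⟨cI, ?_⟩
      rw [← KLin.smul_id]
      haveI := hM.1.1
      refine hom_ext_generic k hM.2.1 _ _ fun η hη v => ?_
      rw [hχ ⟨η, hη⟩, stalkLin_smul, QCoh.stalkLin_id]
      congr 2
      rcases (hcov ▸ Set.mem_univ η : η ∈ Y ∪ Z) with h | h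
      · obtain ⟨t, ht⟩ := hIne η hη h
        have h1 := congrArg (fun f => stalkLin f η t) hψI
        simp only [stalkLin_smul, QCoh.stalkLin_comp, hχ ⟨η, hη⟩] at h1
        refine (cstAt k η).injective (sub_eq_zero.1 (eq_zero_of_smul hη (v := stalkLin a η t)
          (fun h => ht (QCoh.stalkLin_injective a η (h.trans (map_zero _).symm))) ?_))
        rw [sub_smul, h1, sub_self]
      · obtain ⟨t, ht⟩ := hJne η hη h
        obtain ⟨m, hm⟩ := QCoh.stalkLin_surjective b η t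
        have h1 := congrArg (fun f => stalkLin f η m) hψJ
        simp only [stalkLin_smul, QCoh.stalkLin_comp, hχ ⟨η, hη⟩, map_smul, hm] at h1
        refine (cstAt k η).injective (sub_eq_zero.1 (eq_zero_of_smul hη (v := t) ht ?_))
        rw [sub_smul, h1, sub_self]
    · exfalso
      apply hns
      let e : M ⟶ M := (cJ - cI)⁻¹ • (φ - cI • 𝟙 M)
      have hae : a ≫ e = 0 := by
        simp only [e, Linear.comp_smul, Preadditive.comp_sub, Category.comp_id]
        rw [← hψI, sub_self, smul_zero]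
      have heb : e ≫ b = b := by
        simp only [e, Linear.smul_comp, Preadditive.sub_comp, Category.id_comp]
        rw [← hψJ, ← sub_smul, smul_smul, inv_mul_cancel₀ (sub_ne_zero.2 (Ne.symm hIJ)), one_smul]
      obtain ⟨s, hs⟩ := CokernelCofork.IsColimit.desc' hex.gIsCokernel e hae
      replace hs : b ≫ s = e := hs
      exact IsSplitEpi.mk' ⟨s, by rw [← cancel_epi b, ← Category.assoc, hs, heb, Category.comp_id]⟩

end GrothLib.TFSimple15
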