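import Groth.Agent.Lib.TFSimple15.Euler
import Groth.Agent.Lib.TFSimple15.Glue
import Groth.Agent.Lib.SubCurve16.Setup
import Groth.Agent.Lib.Snapper.Intersection
import Groth.Agent.Lib.Snapper.Degree
import Groth.Agent.Lib.Euler.TensorSupport
import Groth.Agent.Lib.QCoh.Qcqs
import Groth.Agent.Lib.GaetaPts20.Eval
import Groth.Agent.Lib.Depth.HartogsUnit
import Mathlib.RingTheory.Ideal.MinimalPrime.Localization

/-!
Torsion-free quotients on unions of components: existence, uniqueness, and additivity of degrees.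
-/

set_option autoImplicit false
set_option linter.style.haveILetI false
set_option backward.isDefEq.respectTransparency false

universe u

open CategoryTheory CategoryTheory.Limits AlgebraicGeometry TopologicalSpace Opposite
open GrothLib.QCoh (stalkLin)
open GrothLib.SubCurve16 (Detect)
open GrothLib.Euler (tF)

noncomputable section

namespace GrothLib.TFSimple15

variable {X : Scheme.{u}}

/-- A union of irreducible components, possibly empty. -/
def IsUnion (Z : Set X) : Prop :=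
  ∃ 𝒮 : Set (Set X), 𝒮 ⊆ irreducibleComponents (X : Type u) ∧ Z = ⋃₀ 𝒮

theorem isUnion_of_subcurve {Z : Set X} (h : VecSt.IsSubcurve X Z) : IsUnion Z :=
  let ⟨𝒮, h1, _, h2⟩ := h
  ⟨𝒮, h1, h2⟩

theorem IsUnion.union {Y Z : Set X} (hY : IsUnion Y) (hZ : IsUnion Z) : IsUnion (Y ∪ Z) := by
  obtain ⟨𝒮, h𝒮, rfl⟩ := hY
  obtain ⟨𝒯, h𝒯, rfl⟩ := hZ
  exact ⟨𝒮 ∪ 𝒯, Set.union_subset h𝒮 h𝒯, Set.sUnion_union _ _ |>.symm⟩

theorem isUnion_sUnion (p : Set X → Prop) :
    IsUnion (⋃₀ {C | C ∈ irreducibleComponents (X : Type u) ∧ p C}) :=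
  ⟨_, fun _ h => h.1, rfl⟩

theorem isUnion_univ : IsUnion (Set.univ : Set X) :=
  ⟨irreducibleComponents (X : Type u), subset_rfl, sUnion_irreducibleComponents.symm⟩

theorem isUnion_empty : IsUnion (∅ : Set X) := ⟨∅, Set.empty_subset _, Set.sUnion_empty.symm⟩

theorem IsUnion.subcurve {Z : Set X} (h : IsUnion Z) (hne : Z.Nonempty) : VecSt.IsSubcurve X Z := by
  obtain ⟨𝒮, h1, rfl⟩ := h
  obtain ⟨x, D, hD, hx⟩ := hne
  exact ⟨𝒮, h1, ⟨D, hD⟩, rfl⟩

theorem IsUnion.exists_generic {Z : Set X} (h : IsUnion Z) {x : X} (hx : x ∈ Z) :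
    ∃ η ∈ genericPoints (X : Type u), η ∈ Z ∧ η ⤳ x := by
  obtain ⟨𝒮, h1, rfl⟩ := h
  obtain ⟨D, hD, hxD⟩ := hx
  obtain ⟨η, hη⟩ := QuasiSober.sober (h1 hD).1 (isClosed_of_mem_irreducibleComponents D (h1 hD))
  refine ⟨η, ?_, ⟨D, hD, hη.mem⟩, hη.specializes hxD⟩
  show closure {η} ∈ irreducibleComponents (X : Type u)
  rw [hη.def]; exact h1 hD

theorem IsUnion.subset_of_generic {Z T : Set X} (h : IsUnion Z) (hT : IsClosed T)
    (hg : ∀ η ∈ genericPoints (X : Type u), η ∈ Z → η ∈ T) : Z ⊆ T := fun x hx => by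
  obtain ⟨η, hη, hηZ, hs⟩ := h.exists_generic hx
  exact hs.mem_closed hT (hg η hη hηZ)

/-- A union of components is closed. -/
theorem IsUnion.isClosed [NoetherianSpace X] {Z : Set X} (h : IsUnion Z) : IsClosed Z := by
  obtain ⟨𝒮, h1, rfl⟩ := h
  rw [Set.sUnion_eq_biUnion]
  exact (NoetherianSpace.finite_irreducibleComponents.subset h1).isClosed_biUnion
    fun C hC => isClosed_of_mem_irreducibleComponents C (h1 hC)

variable [IsReduced X]

/-- A regular element of a local ring does not vanish at the generic points through the point. -/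
theorem stalkSpecializes_ne_zero {η x : X} (hη : η ∈ genericPoints (X : Type u)) (h : η ⤳ x)
    {r : X.presheaf.stalk x} (hr : IsRegular r) : X.presheaf.stalkSpecializes h r ≠ 0 := by
  intro h0
  have hf := GrothLib.SubCurve16.isField_stalk hη
  let φ := (X.presheaf.stalkSpecializes h).hom
  let p : Ideal (X.presheaf.stalk x) := (IsLocalRing.maximalIdeal (X.presheaf.stalk η)).comap φ
  have hmax : IsLocalRing.maximalIdeal (X.presheaf.stalk η) = ⊥ := IsLocalRing.isField_iff_maximalIdeal_eq.1 hf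
  have hp : p ∈ minimalPrimes (X.presheaf.stalk x) := by
    refine ⟨⟨inferInstance, bot_le⟩, fun q hq hqp => ?_⟩
    haveI := hq.1
    let Q : Spec (X.presheaf.stalk x) := ⟨q, hq.1⟩
    let P : Spec (X.presheaf.stalk x) := Spec.map (X.presheaf.stalkSpecializes h) (IsLocalRing.closedPoint _)
    have hP : X.fromSpecStalk x P = η := by
      show (Spec.map (X.presheaf.stalkSpecializes h) ≫ X.fromSpecStalk x) (IsLocalRing.closedPoint _) = η
      rw [Scheme.SpecMap_stalkSpecializes_fromSpecStalk, Scheme.fromSpecStalk_closedPoint]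
    have hs : Q ⤳ P := (PrimeSpectrum.le_iff_specializes Q P).1 hqp
    have := GrothLib.FinAff13.mem_genericPoints_iff.1 hη _ (hP ▸ hs.map (X.fromSpecStalk x).continuous)
    have hQP : Q = P := (X.fromSpecStalk x).isEmbedding.injective (this.trans hP.symm)
    exact le_of_eq (congrArg PrimeSpectrum.asIdeal hQP).symm
  refine Set.disjoint_left.1 (Ideal.disjoint_nonZeroDivisors_of_mem_minimalPrimes hp) ?_
    hr.mem_nonZeroDivisors
  show φ r ∈ IsLocalRing.maximalIdeal (X.presheaf.stalk η)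
  rw [hmax, Ideal.mem_bot]
  exact h0

/-- Modules detected at the generic points are torsion-free. -/
theorem isTorsionFree_of_detect [NoetherianSpace X] {M : X.Modules}
    (h : Detect M (genericPoints (X : Type u))) : TorSh.IsTorsionFree M := by
  intro x
  refine ⟨fun r hr => fun m₁ m₂ h12 => sub_eq_zero.1 ?_⟩
  have hm0 : r • (m₁ - m₂) = 0 := by rw [smul_sub]; exact sub_eq_zero.2 h12
  revert hm0
  generalize m₁ - m₂ = m
  intro hm
  obtain ⟨U₁, hx₁, s, rfl⟩ := TopCat.Presheaf.exists_germ_eq M.presheaf m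
  obtain ⟨U₂, hx₂, a, rfl⟩ := X.presheaf.germ_exist (x := x) r
  let U : X.Opens := U₁ ⊓ U₂
  let s' : Γ(M, U) := M.presheaf.map (homOfLE (inf_le_left : U ≤ U₁)).op s
  let a' : Γ(X, U) := X.presheaf.map (homOfLE (inf_le_right : U ≤ U₂)).op a
  have hxU : x ∈ U := ⟨hx₁, hx₂⟩
  have h0 : M.presheaf.germ U x hxU (a' • s') = M.presheaf.germ U x hxU 0 := by
    rw [map_zero, WeakAss.germ_smul, TopCat.Presheaf.germ_res_apply, TopCat.Presheaf.germ_res_apply]
    exact hm
  obtain ⟨V, hxV, i₁, i₂, hV⟩ := TopCat.Presheaf.germ_eq M.presheaf x hxU hxU _ _ h0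
  let B : Set X := ⋃₀ {C | C ∈ irreducibleComponents (X : Type u) ∧ x ∉ C}
  have hB : IsClosed B := (isUnion_sUnion _).isClosed
  let W : X.Opens := V ⊓ ⟨Bᶜ, hB.isOpen_compl⟩
  have hxW : x ∈ W := ⟨hxV, fun ⟨C, hC, hxC⟩ => hC.2 hxC⟩
  have hs0 : M.presheaf.map (homOfLE (show W ≤ U from inf_le_left.trans i₁.le)).op s' = 0 := by
    refine h W _ fun η hηW hη => ?_
    have hsp : η ⤳ x := by
      rw [specializes_iff_mem_closure]
      by_contra hx
      exact hηW.2 ⟨closure {η}, ⟨hη, hx⟩, subset_closure rfl⟩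
    rw [TopCat.Presheaf.germ_res_apply]
    have h1 : M.presheaf.germ U η (i₁.le hηW.1) (a' • s') = 0 := by
      rw [← TopCat.Presheaf.germ_res_apply M.presheaf i₁ η hηW.1 (a' • s'), hV, map_zero, map_zero]
    rw [WeakAss.germ_smul] at h1
    by_contra hne
    refine stalkSpecializes_ne_zero hη hsp hr ?_
    have h2 := eq_zero_of_smul hη hne h1
    rw [TopCat.Presheaf.germ_res_apply] at h2
    exact (TopCat.Presheaf.germ_stalkSpecializes_apply X.presheaf hx₂ hsp a).trans h2
  rw [← TopCat.Presheaf.germ_res_apply M.presheaf (homOfLE (inf_le_left : U ≤ U₁)) x hxU s,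
    ← TopCat.Presheaf.germ_res_apply M.presheaf (homOfLE (show W ≤ U from inf_le_left.trans i₁.le)) x hxW]
  exact (congrArg (M.presheaf.germ W x hxW) hs0).trans (map_zero _)

/-- Torsion-free quasi-coherent modules are detected at the generic points. -/
theorem detect_of_isTorsionFree [IsLocallyNoetherian X] {M : X.Modules} [M.IsQuasicoherent]
    (h : TorSh.IsTorsionFree M) : Detect M (genericPoints (X : Type u)) := fun _ u hu =>
  TFCurve11.eq_zero_of_maximal_germ h u fun w hw hmax => hu w hw (mem_genericPoints_of_maximal hmax)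

/-- All generic stalks of `M` are at most one-dimensional. -/
def HasLines (M : X.Modules) : Prop :=
  ∀ η ∈ genericPoints (X : Type u), ∀ m v : M.presheaf.stalk η, m ≠ 0 → ∃ r : X.presheaf.stalk η, v = r • m

theorem hasLines_of_tf1 {M : X.Modules} (hM : TFOne.IsTF1 X M) : HasLines M := by
  intro η hη m v hm
  obtain ⟨e⟩ := hM.2.2 η hη
  obtain ⟨r, hr⟩ := (GrothLib.SubCurve16.isField_stalk hη).mul_inv_cancel
    (fun h => hm (e.map_eq_zero_iff.1 h) : e m ≠ 0)
  exact ⟨e v * r, e.injective (by rw [map_smul, smul_eq_mul, mul_assoc, mul_comm r, hr, mul_one])⟩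

theorem hasLines_structureModule : HasLines (Coh.structureModule X) := by
  intro η hη m v hm
  obtain ⟨a, rfl⟩ := GaetaPts20.exists_eq_smul_g1 η m
  obtain ⟨b, rfl⟩ := GaetaPts20.exists_eq_smul_g1 η v
  obtain ⟨c, hc⟩ := (GrothLib.SubCurve16.isField_stalk hη).mul_inv_cancel
    (fun h => hm (by rw [h, zero_smul]) : a ≠ 0)
  exact ⟨b * c, by rw [smul_smul, mul_assoc, mul_comm c, hc, mul_one]⟩

omit [IsReduced X] in
theorem smul_g1_injective {x : X} {c d : X.presheaf.stalk x}
    (h : c • GaetaPts20.g1 x = d • GaetaPts20.g1 x) : c = d := by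
  have h0 : (c - d) • GaetaPts20.g1 x = 0 := by rw [sub_smul, h, sub_self]
  refine sub_eq_zero.1 ?_
  obtain ⟨U, hx, s, hs⟩ := X.presheaf.germ_exist (x := x) (c - d)
  rw [← hs] at h0 ⊢
  rw [GaetaPts20.g1_eq hx, ← WeakAss.germ_smul,
    show s • (FinCov.one X U) = (s : Γ(Coh.structureModule X, U)) from mul_one (M := Γ(X, U)) s] at h0
  obtain ⟨V, hV, i₁, i₂, e⟩ := TopCat.Presheaf.germ_eq (Coh.structureModule X).presheaf x hx hx _ _
    (h0.trans (map_zero _).symm)
  rw [← TopCat.Presheaf.germ_res_apply X.presheaf i₁ x hV s]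
  exact (congrArg (X.presheaf.germ V x hV) (e.trans (map_zero _))).trans (map_zero _)

omit [IsReduced X] in
theorem isTorsionFree_structureModule : TorSh.IsTorsionFree (Coh.structureModule X) := fun x =>
  ⟨fun r hr => fun m₁ m₂ h => by
    obtain ⟨a, rfl⟩ := GaetaPts20.exists_eq_smul_g1 x m₁
    obtain ⟨b, rfl⟩ := GaetaPts20.exists_eq_smul_g1 x m₂
    simp only [smul_smul] at h
    rw [hr.left (smul_g1_injective h)]⟩

omit [IsReduced X] in
theorem support_structureModule : CohB1.support (Coh.structureModule X) = Set.univ :=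
  Set.eq_univ_of_forall fun x hs => GaetaPts20.g1_notMem x (by
    haveI : Subsingleton ((Coh.structureModule X).presheaf.stalk x) := hs
    rw [Subsingleton.elim (GaetaPts20.g1 x) 0]; exact Submodule.zero_mem _)

omit [IsReduced X] in
theorem HasLines.of_mono {N M : X.Modules} (h : HasLines M) (i : N ⟶ M) [Mono i] : HasLines N := by
  intro η hη m v hm
  obtain ⟨r, hr⟩ := h η hη (stalkLin i η m) (stalkLin i η v)
    fun h0 => hm (QCoh.stalkLin_injective i η (h0.trans (map_zero _).symm))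
  exact ⟨r, QCoh.stalkLin_injective i η (hr.trans (map_smul _ r m).symm)⟩

omit [IsReduced X] in
theorem HasLines.of_epi {N M : X.Modules} (h : HasLines M) (p : M ⟶ N) [Epi p] : HasLines N := by
  intro η hη m v hm
  obtain ⟨m', rfl⟩ := QCoh.stalkLin_surjective p η m
  obtain ⟨v', rfl⟩ := QCoh.stalkLin_surjective p η v
  obtain ⟨r, rfl⟩ := h η hη m' v' fun h0 => hm (by rw [h0, map_zero])
  exact ⟨r, map_smul _ r m'⟩

omit [IsReduced X] in
theorem HasLines.stalk_injective {M G : X.Modules} (h : HasLines M) {T : Set X} {π : M ⟶ G}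
    (hG : TFOne.IsQuotOn X M T G π) {η : X} (hη : η ∈ genericPoints (X : Type u)) (hT : η ∈ T)
    {m : M.presheaf.stalk η} (hm : stalkLin π η m = 0) : m = 0 := by
  by_contra hne
  haveI : Epi π := hG.1
  obtain ⟨a, b, hab⟩ :=
    (not_subsingleton_iff_nontrivial.1 (show η ∈ CohB1.support G from hG.2.2.2.symm ▸ hT)).exists_pair_ne
  have h0 : ∀ x : G.presheaf.stalk η, x = 0 := by
    intro x
    obtain ⟨v, rfl⟩ := QCoh.stalkLin_surjective π η x
    obtain ⟨r, rfl⟩ := h η hη m v hne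
    rw [map_smul, hm, smul_zero]
  exact hab ((h0 a).trans (h0 b).symm)

variable (k : Type u) [Field k] [X.Over (Spec (CommRingCat.of k))] [IsProper (X ↘ Spec (CommRingCat.of k))]

include k

theorem exists_factor' {M G H : X.Modules} (hM : HasLines M) {T S : Set X} {π : M ⟶ G}
    (hG : TFOne.IsQuotOn X M T G π) {ρ : M ⟶ H} (hH : TFOne.IsQuotOn X M S H ρ)
    (hST : ∀ η ∈ genericPoints (X : Type u), η ∈ S → η ∈ T) : ∃ q : G ⟶ H, π ≫ q = ρ := by
  haveI : Epi π := hG.1
  haveI := hH.2.1.1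
  have hker : kernel.ι π ≫ ρ = 0 := by
    refine hom_ext_generic k hH.2.2.1 _ _ fun η hη v => ?_
    rw [stalkLin_zero]
    by_cases hS : η ∈ S
    · rw [QCoh.stalkLin_comp, hM.stalk_injective hG hη (hST η hη hS) (m := stalkLin (kernel.ι π) η v)
        (by rw [← QCoh.stalkLin_comp, kernel.condition, stalkLin_zero]), map_zero]
    · exact stalk_eq_zero_of_notMem hH hS _
  exact ⟨Abelian.epiDesc π ρ hker, Abelian.comp_epiDesc π _ _⟩

/-- The torsion-free quotient on a given set is unique. -/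
theorem exists_iso_quot {M G H : X.Modules} (hM : HasLines M) {T S : Set X} {π : M ⟶ G}
    (hG : TFOne.IsQuotOn X M T G π) {ρ : M ⟶ H} (hH : TFOne.IsQuotOn X M S H ρ)
    (hST : ∀ η ∈ genericPoints (X : Type u), (η ∈ S ↔ η ∈ T)) : ∃ e : G ≅ H, π ≫ e.hom = ρ := by
  obtain ⟨q, hq⟩ := exists_factor' k hM hG hH fun η hη => (hST η hη).1
  obtain ⟨q', hq'⟩ := exists_factor' k hM hH hG fun η hη => (hST η hη).2
  haveI : Epi π := hG.1
  haveI : Epi ρ := hH.1
  exact ⟨⟨q, q', by rw [← cancel_epi π, reassoc_of% hq, hq', Category.comp_id],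
    by rw [← cancel_epi ρ, reassoc_of% hq', hq, Category.comp_id]⟩, hq⟩

/-- Torsion-free quotients exist on every union of components. -/
theorem exists_quotOn {F : X.Modules} (hF : Coh.IsCoh F) (htf : TorSh.IsTorsionFree F)
    (hsupp : ∀ η ∈ genericPoints (X : Type u), η ∈ CohB1.support F) {T : Set X} (hT : IsClosed T)
    (hTu : IsUnion T) : ∃ (G : X.Modules) (π : F ⟶ G), TFOne.IsQuotOn X F T G π := by
  haveI := Euler.isNoetherian_of_proper (X := X) k
  haveI := hF.1
  let B : Set X := ⋃₀ {C | C ∈ irreducibleComponents (X : Type u) ∧ ¬ C ⊆ T}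
  have hB : IsClosed B := (isUnion_sUnion _).isClosed
  let U : X.Opens := ⟨Bᶜ, hB.isOpen_compl⟩
  have hUT : ∀ x ∈ U, x ∈ T := by
    intro x hx
    by_contra hxT
    exact hx ⟨_, ⟨irreducibleComponent_mem_irreducibleComponents x, fun h => hxT (h mem_irreducibleComponent)⟩,
      mem_irreducibleComponent⟩
  have hgU : ∀ η ∈ genericPoints (X : Type u), η ∈ T → η ∈ U := by
    intro η hη hηT hηB
    obtain ⟨C, ⟨hC, hnot⟩, hηC⟩ := hηB
    have hcl : closure {η} ⊆ C := (isClosed_of_mem_irreducibleComponents C hC).closure_subset_iff.2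
      (Set.singleton_subset_iff.2 hηC)
    exact hnot ((hη.2 hC.1 hcl).trans (closure_minimal (Set.singleton_subset_iff.2 hηT) hT))
  haveI : CompactSpace (U : Scheme.{u}) := isCompact_iff_compactSpace.mp (NoetherianSpace.isCompact _)
  let N : X.Modules := (Scheme.Modules.pushforward U.ι).obj (F.restrict U.ι)
  haveI : (F.restrict U.ι).IsQuasicoherent := inferInstance
  haveI : QuasiCompact U.ι := inferInstance
  haveI : N.IsQuasicoherent := QCoh.isQuasicoherent_pushforward _ _
  let u : F ⟶ N := (Scheme.Modules.restrictAdjunction U.ι).unit.app F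
  let G := Abelian.image u
  let π : F ⟶ G := Abelian.factorThruImage u
  have hdetF := detect_of_isTorsionFree htf
  have himg : ∀ W : X.Opens, U.ι ''ᵁ (U.ι ⁻¹ᵁ W) = W ⊓ U := fun W => Depth.image_preimage_eq_inf U W
  have hdN : Detect N (genericPoints (X : Type u)) := by
    intro W t ht
    refine hdetF (U.ι ''ᵁ (U.ι ⁻¹ᵁ W)) (show Γ(F, U.ι ''ᵁ (U.ι ⁻¹ᵁ W)) from t) fun η hη hg => ?_
    have hηW : η ∈ W ⊓ U := himg W ▸ hη
    obtain ⟨V, hηV, i₁, i₂, hV⟩ := TopCat.Presheaf.germ_eq N.presheaf η hηW.1 hηW.1 t 0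
      ((ht η hηW.1 hg).trans (map_zero _).symm)
    have hV' : F.presheaf.map (homOfLE (U.ι.image_mono (U.ι.preimage_mono i₁.le))).op
        (show Γ(F, U.ι ''ᵁ (U.ι ⁻¹ᵁ W)) from t) = 0 := by
      have := hV.trans (map_zero _)
      exact this
    have hηV' : η ∈ U.ι ''ᵁ (U.ι ⁻¹ᵁ V) := (himg V).symm ▸ ⟨hηV, hηW.2⟩
    rw [← TopCat.Presheaf.germ_res_apply F.presheaf
      (homOfLE (U.ι.image_mono (U.ι.preimage_mono i₁.le))) η hηV']
    exact (congrArg (F.presheaf.germ _ η hηV') hV').trans (map_zero _)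
  have hG : Coh.IsCoh G := by
    haveI : (kernel u).IsQuasicoherent := QCoh.isQuasicoherent_kernel _
    haveI : (cokernel (kernel.ι u)).IsQuasicoherent := QCoh.isQuasicoherent_cokernel _
    exact QCoh.isCoh_of_iso (Abelian.coimageIsoImage u)
      ⟨inferInstanceAs ((cokernel (kernel.ι u)).IsQuasicoherent), QCoh.isFiniteType_cokernel (kernel.ι u) hF.2⟩
  refine ⟨G, π, inferInstance, hG, isTorsionFree_of_detect (hdN.of_mono (Abelian.image.ι u)), ?_⟩
  apply Set.Subset.antisymm
  · intro x hx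
    by_contra hxT
    apply hx
    refine ⟨fun a b => ?_⟩
    suffices H : ∀ a : G.presheaf.stalk x, a = 0 from (H a).trans (H b).symm
    intro a
    apply QCoh.stalkLin_injective (Abelian.image.ι u) x
    rw [map_zero]
    obtain ⟨W, hW, t, ht⟩ := TopCat.Presheaf.exists_germ_eq N.presheaf (stalkLin (Abelian.image.ι u) x a)
    let W' : X.Opens := W ⊓ ⟨Tᶜ, hT.isOpen_compl⟩
    have hxW' : x ∈ W' := ⟨hW, hxT⟩
    rw [← ht, ← TopCat.Presheaf.germ_res_apply N.presheaf (homOfLE (inf_le_left : W' ≤ W)) x hxW' t]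
    have h0 : N.presheaf.map (homOfLE (inf_le_left : W' ≤ W)).op t = 0 := by
      refine hdN W' _ fun η hη hg => ?_
      have hempty : U.ι ⁻¹ᵁ W' = ⊥ := le_antisymm (fun y hy => (hy.2 (hUT _ y.2)).elim) bot_le
      haveI : Subsingleton Γ(N, W') := by
        show Subsingleton Γ(F.restrict U.ι, U.ι ⁻¹ᵁ W')
        rw [hempty]
        exact Cohom.subsingleton_sections_bot (Coh.toAb (F.restrict U.ι))
      rw [Subsingleton.elim (N.presheaf.map (homOfLE (inf_le_left : W' ≤ W)).op t) (0 : Γ(N, W'))]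
      exact map_zero _
    exact (congrArg (N.presheaf.germ W' x hxW') h0).trans (map_zero _)
  · intro x hx
    obtain ⟨η, hη, hηT, hs⟩ := hTu.exists_generic hx
    refine hs.mem_closed (QCoh.isClosed_support_of_isCoh hG) ?_
    obtain ⟨a, b, hab⟩ := (not_subsingleton_iff_nontrivial.1 (hsupp η hη)).exists_pair_ne
    intro hsub
    apply sub_ne_zero.2 hab
    have hπ0 : stalkLin π η (a - b) = 0 := Subsingleton.elim _ _
    obtain ⟨W, hW, s, hs'⟩ := TopCat.Presheaf.exists_germ_eq F.presheaf (a - b)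
    have hu0 : stalkLin u η (a - b) = 0 := by
      rw [← Abelian.image.fac u, QCoh.stalkLin_comp]
      exact (congrArg (stalkLin (Abelian.image.ι u) η) hπ0).trans (map_zero _)
    rw [← hs', QCoh.stalkLin_germ] at hu0
    obtain ⟨V, hηV, i₁, i₂, hV⟩ := TopCat.Presheaf.germ_eq N.presheaf η hW hW (u.app W s) 0
      (hu0.trans (map_zero _).symm)
    have hηV' : η ∈ U.ι ''ᵁ (U.ι ⁻¹ᵁ V) := (himg V).symm ▸ ⟨hηV, hgU η hη hηT⟩
    have hle : U.ι ''ᵁ (U.ι ⁻¹ᵁ V) ≤ W := (U.ι.image_preimage_le V).trans i₁.le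
    rw [← hs', ← TopCat.Presheaf.germ_res_apply F.presheaf (homOfLE hle) η hηV' s]
    have hz : F.presheaf.map (homOfLE hle).op s = 0 := by
      have h2 : F.presheaf.map (homOfLE (U.ι.image_mono (U.ι.preimage_mono i₁.le))).op
          (F.presheaf.map (homOfLE (U.ι.image_preimage_le W)).op s) = 0 := hV.trans (map_zero _)
      rwa [← CategoryTheory.comp_apply, ← Functor.map_comp, ← op_comp, homOfLE_comp] at h2
    exact (congrArg (F.presheaf.germ _ η hηV') hz).trans (map_zero _)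

/-- The structure sheaf of a union of components is its torsion-free quotient on it. -/
theorem isQuotOn_toSubscheme {Z : Set X} (hZ : IsClosed Z) (hZu : IsUnion Z) :
    TFOne.IsQuotOn X (Coh.structureModule X) Z (ClSub.quotMod (Scheme.IdealSheafData.vanishingIdeal ⟨Z, hZ⟩))
      (ClSub.toSubscheme (Scheme.IdealSheafData.vanishingIdeal ⟨Z, hZ⟩)) := by
  haveI := Euler.isNoetherian_of_proper (X := X) k
  let I := Scheme.IdealSheafData.vanishingIdeal (⟨Z, hZ⟩ : TopologicalSpace.Closeds X)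
  haveI : IsReduced I.subscheme := GrothLib.RedSub.isReduced_subscheme_vanishingIdeal _
  haveI : IsLocallyNoetherian I.subscheme := LocallyOfFiniteType.isLocallyNoetherian I.subschemeι
  haveI := Cohom.isQuasicoherent_structureModule I.subscheme
  have hr : Set.range I.subschemeι = Z := Scheme.IdealSheafData.range_subschemeι _
  have hdet' : Detect (ClSub.quotMod I) (genericPoints (X : Type u) ∩ Z) :=
    GrothLib.SubCurve16.detect_quotMod I (S := genericPoints (X : Type u) ∩ Z)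
      (by
        rintro x hx
        obtain ⟨η, hη, hηZ, hs⟩ := hZu.exists_generic
          (show x ∈ Z from hr ▸ (Scheme.IdealSheafData.range_subschemeι I).symm ▸ hx)
        exact closure_mono (show ({η} : Set X) ⊆ genericPoints (X : Type u) ∩ Z from
          Set.singleton_subset_iff.2 ⟨hη, hηZ⟩) (specializes_iff_mem_closure.1 hs))
      (fun η hη => by
        have h := hη.2
        rw [← hr, Scheme.IdealSheafData.range_subschemeι I] at h
        exact h)
  have hdet : Detect (ClSub.quotMod I) (genericPoints (X : Type u)) :=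
    fun U u hu => hdet' U u fun η hU hS => hu η hU hS.1
  refine ⟨Euler.epi_toSubscheme I, Snapper.isCoh_quotMod k I, isTorsionFree_of_detect hdet, ?_⟩
  apply Set.Subset.antisymm
  · exact (QCoh.support_pushforward_subset_range I.subschemeι _).trans hr.le
  · intro x hx
    show x ∈ CohB1.support (ClSub.quotMod I)
    exact not_subsingleton_iff_nontrivial.2 (GrothLib.SubCurve16.nontrivial_stalk_quotMod
      (show x ∈ (I.support : Set X) from Scheme.IdealSheafData.range_subschemeι I ▸ hr.ge hx))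

/-- The exact sequences relating the quotients on a union and on the meet. -/
theorem exists_union_meet_seq (M : X.Modules) (hM : HasLines M) (Y Z W : Set X)
    (hYZW : ∀ η ∈ genericPoints (X : Type u), (η ∈ W ↔ η ∈ Y ∧ η ∈ Z)) (GY GZ GU GW : X.Modules)
    (πY : M ⟶ GY) (πZ : M ⟶ GZ) (πU : M ⟶ GU) (πW : M ⟶ GW)
    (hGY : TFOne.IsQuotOn X M Y GY πY) (hGZ : TFOne.IsQuotOn X M Z GZ πZ)
    (hGU : TFOne.IsQuotOn X M (Y ∪ Z) GU πU) (hGW : TFOne.IsQuotOn X M W GW πW) :
    ∃ S₁ S₂ : ShortComplex X.Modules, S₁.ShortExact ∧ S₂.ShortExact ∧ S₁.X₁ = GU ∧ S₁.X₂ = (GY ⊞ GZ) ∧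
      S₂.X₂ = S₁.X₃ ∧ S₂.X₃ = GW ∧ Coh.IsCoh S₁.X₃ ∧ Coh.IsCoh S₂.X₁ ∧
      ∀ η ∈ genericPoints (X : Type u), η ∉ CohB1.support S₂.X₁ := by
  haveI := Euler.isNoetherian_of_proper (X := X) k
  obtain ⟨pY, hpY⟩ := exists_factor' k hM hGU hGY fun η _ h => Or.inl h
  obtain ⟨pZ, hpZ⟩ := exists_factor' k hM hGU hGZ fun η _ h => Or.inr h
  obtain ⟨qY, hqY⟩ := exists_factor' k hM hGY hGW fun η hη h => ((hYZW η hη).1 h).1
  obtain ⟨qZ, hqZ⟩ := exists_factor' k hM hGZ hGW fun η hη h => ((hYZW η hη).1 h).2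
  haveI : Epi πU := hGU.1
  haveI : Epi πW := hGW.1
  haveI : Epi qY := epi_of_epi_fac hqY
  let f : GU ⟶ GY ⊞ GZ := biprod.lift pY pZ
  let g : GY ⊞ GZ ⟶ GW := biprod.desc qY (-qZ)
  have hfg : f ≫ g = 0 := by
    rw [← cancel_epi πU, biprod.lift_desc, Preadditive.comp_add, Preadditive.comp_neg,
      Preadditive.comp_neg, reassoc_of% hpY, reassoc_of% hpZ, hqY, hqZ, add_neg_cancel, comp_zero]
  haveI : Epi g := epi_of_epi_fac (biprod.inl_desc qY (-qZ))
  haveI : Mono f := by
    haveI := hGU.2.1.1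
    refine Preadditive.mono_of_kernel_zero (hom_ext_generic k hGU.2.2.1 _ _ fun η hη v => ?_)
    rw [stalkLin_zero]
    obtain ⟨m, hm⟩ := QCoh.stalkLin_surjective πU η (stalkLin (kernel.ι f) η v)
    rw [← hm]
    have hp : ∀ {G : X.Modules} (p : GY ⊞ GZ ⟶ G), stalkLin (πU ≫ f ≫ p) η m = 0 := by
      intro G p
      rw [QCoh.stalkLin_comp, QCoh.stalkLin_comp, hm, ← QCoh.stalkLin_comp (kernel.ι f) f, kernel.condition,
        stalkLin_zero, map_zero]
    have h1 : stalkLin πY η m = 0 := by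
      rw [← hpY, ← hp biprod.fst, biprod.lift_fst]
    have h2 : stalkLin πZ η m = 0 := by
      rw [← hpZ, ← hp biprod.snd, biprod.lift_snd]
    by_cases hU : η ∈ Y ∪ Z
    · rcases hU with h | h
      · rw [hM.stalk_injective hGY hη h h1, map_zero]
      · rw [hM.stalk_injective hGZ hη h h2, map_zero]
    · exact stalk_eq_zero_of_notMem hGU hU _
  have hB : Coh.IsCoh (GY ⊞ GZ) := QCoh.isCoh_biprod' hGY.2.1 hGZ.2.1
  let g' : cokernel f ⟶ GW := cokernel.desc f g hfg
  haveI : Epi g' := epi_of_epi_fac (cokernel.π_desc f g hfg)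
  have hC : Coh.IsCoh (cokernel f) := QCoh.isCoh_cokernel f hGU.2.1 hB
  have hK : Coh.IsCoh (kernel g') := QCoh.isCoh_kernel g' hC hGW.2.1
  refine ⟨ShortComplex.mk f (cokernel.π f) (cokernel.condition f),
    ShortComplex.mk (kernel.ι g') g' (kernel.condition g'),
    { exact := ShortComplex.exact_cokernel f },
    { exact := ShortComplex.exact_kernel g' }, rfl, rfl, rfl, rfl, hC, hK, ?_⟩
  intro η hη hs
  apply hs
  refine ⟨fun a b => ?_⟩
  suffices H : ∀ a : (kernel g').presheaf.stalk η, a = 0 from (H a).trans (H b).symm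
  intro a
  apply QCoh.stalkLin_injective (kernel.ι g') η
  rw [map_zero]
  obtain ⟨x, hx⟩ := QCoh.stalkLin_surjective (cokernel.π f) η (stalkLin (kernel.ι g') η a)
  have hgx : stalkLin g η x = 0 := by
    rw [← cokernel.π_desc f g hfg, QCoh.stalkLin_comp, hx, ← QCoh.stalkLin_comp, kernel.condition, stalkLin_zero]
  rw [← hx]
  suffices hl : ∃ m, stalkLin f η (stalkLin πU η m) = x by
    obtain ⟨m, rfl⟩ := hl
    rw [← QCoh.stalkLin_comp, cokernel.condition, stalkLin_zero]
  have hxdec : stalkLin (biprod.inl : GY ⟶ GY ⊞ GZ) η (stalkLin biprod.fst η x) +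
      stalkLin (biprod.inr : GZ ⟶ GY ⊞ GZ) η (stalkLin biprod.snd η x) = x := by
    rw [← QCoh.stalkLin_comp, ← QCoh.stalkLin_comp, ← QCoh.stalkLin_add, biprod.total, QCoh.stalkLin_id]
  have key : ∀ m, stalkLin πY η m = stalkLin biprod.fst η x → stalkLin πZ η m = stalkLin biprod.snd η x →
      stalkLin f η (stalkLin πU η m) = x := by
    intro m h1 h2
    rw [← hxdec, ← h1, ← h2, ← hpY, ← hpZ]
    simp only [← QCoh.stalkLin_comp, ← QCoh.stalkLin_add]
    congr 1
    congr 1
    simp [f, biprod.lift_eq]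
  haveI : Epi πY := hGY.1
  haveI : Epi πZ := hGZ.1
  by_cases hηY : η ∈ Y
  · obtain ⟨m, hm⟩ := QCoh.stalkLin_surjective πY η (stalkLin biprod.fst η x)
    refine ⟨m, key m hm ?_⟩
    by_cases hηZ : η ∈ Z
    · obtain ⟨n, hn⟩ := QCoh.stalkLin_surjective πZ η (stalkLin biprod.snd η x)
      rw [← hn]
      congr 1
      have hs : stalkLin qY η (stalkLin biprod.fst η x) = stalkLin qZ η (stalkLin biprod.snd η x) := by
        have h := hgx
        rw [← hxdec, map_add, ← QCoh.stalkLin_comp (biprod.inl : GY ⟶ _) g, biprod.inl_desc,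
          ← QCoh.stalkLin_comp (biprod.inr : GZ ⟶ _) g, biprod.inr_desc] at h
        have hneg : ∀ y, stalkLin (-qZ) η y + stalkLin qZ η y = 0 := fun y => by
          rw [← QCoh.stalkLin_add, neg_add_cancel, stalkLin_zero]
        exact add_neg_eq_zero.1 ((congrArg (stalkLin qY η _ + ·) (neg_eq_of_add_eq_zero_left (hneg _))).trans h)
      rw [← hm, ← hn, ← QCoh.stalkLin_comp, hqY, ← QCoh.stalkLin_comp, hqZ] at hs
      exact sub_eq_zero.1 (hM.stalk_injective hGW hη ((hYZW η hη).2 ⟨hηY, hηZ⟩) (by rw [map_sub, hs, sub_self]))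
    · exact (stalk_eq_zero_of_notMem hGZ hηZ _).trans (stalk_eq_zero_of_notMem hGZ hηZ _).symm
  · obtain ⟨m, hm⟩ := QCoh.stalkLin_surjective πZ η (stalkLin biprod.snd η x)
    exact ⟨m, key m ((stalk_eq_zero_of_notMem hGY hηY _).trans (stalk_eq_zero_of_notMem hGY hηY _).symm) hm⟩

/-- `χ(E ⊗ M) - r χ(M)`. -/
def degFun (E : X.Modules) (r : ℕ) (M : X.Modules) : ℤ :=
  Curv2.euler k X ((tF E).obj M) - (r : ℤ) * Curv2.euler k X M

/-- The degree of a bundle on a union of components. -/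
def degOn (Z : Set X) (hZ : IsClosed Z) (E : X.Modules) (r : ℕ) : ℤ :=
  letI : (VecSt.subsch X Z hZ).Over (Spec (CommRingCat.of k)) :=
    ⟨VecSt.subschι X Z hZ ≫ (X ↘ Spec (CommRingCat.of k))⟩
  Curv2.deg k (VecSt.subsch X Z hZ) ((Scheme.Modules.pullback (VecSt.subschι X Z hZ)).obj E) r

omit [IsReduced X] [IsProper (X ↘ Spec (CommRingCat.of k))] in
theorem rBeta_eq (Z : Set X) (hZ : IsClosed Z) (E : X.Modules) (r : ℕ) (G : X.Modules) :
    TFOne.rBeta X k (X ↘ Spec (CommRingCat.of k)) Z hZ E r G = (r : ℤ) * Curv2.euler k X G + degOn k Z hZ E r :=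
  rfl

include k

omit [IsReduced X] in
theorem degOn_eq (Z : Set X) (hZ : IsClosed Z) {E : X.Modules} {r : ℕ} (hE : FlatMod.IsFinLocFreeOfRank r E) :
    degOn k Z hZ E r = degFun k E r (ClSub.quotMod (Scheme.IdealSheafData.vanishingIdeal ⟨Z, hZ⟩)) := by
  have hE' : FlatMod.IsFinLocFree E := fun x => let ⟨U, hx, h⟩ := hE x; ⟨U, r, hx, h⟩
  rw [degFun, Snapper.euler_tF_quotMod k _ hE', Snapper.euler_quotMod k]
  rfl

omit [IsReduced X] in
theorem degFun_add {E : X.Modules} {r : ℕ} (hE : FlatMod.IsFinLocFreeOfRank r E) {S : ShortComplex X.Modules}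
    (hS : S.ShortExact) (a : Coh.IsCoh S.X₁) (b : Coh.IsCoh S.X₂) (c : Coh.IsCoh S.X₃) :
    degFun k E r S.X₂ = degFun k E r S.X₁ + degFun k E r S.X₃ := by
  have hE' : FlatMod.IsFinLocFree E := fun x => let ⟨U, hx, h⟩ := hE x; ⟨U, r, hx, h⟩
  haveI := Euler.isNoetherian_of_proper (X := X) k
  have hT : (S.map (tF E)).ShortExact := OX.tensor_map_shortExact (OX.flat_of_isFinLocFree hE') hS
  have h : Curv2.euler k X ((tF E).obj S.X₂) =
      Curv2.euler k X ((tF E).obj S.X₁) + Curv2.euler k X ((tF E).obj S.X₃) :=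
    DecSh20.euler_add k (S := S.map (tF E)) hT (Euler.isCoh_tF a hE') (Euler.isCoh_tF b hE') (Euler.isCoh_tF c hE')
  have h' := Euler.euler_additive k hS a b c
  simp only [degFun, h, h']
  ring

/-- Degrees are additive on unions of components. -/
theorem degOn_union (hd : topologicalKrullDim X ≤ 1) {E : X.Modules} {r : ℕ} (hE : FlatMod.IsFinLocFreeOfRank r E)
    {Y Z W : Set X} (hY : IsClosed Y) (hZ : IsClosed Z) (hW : IsClosed W) (hYu : IsUnion Y) (hZu : IsUnion Z)
    (hWu : IsUnion W) (hYZW : ∀ η ∈ genericPoints (X : Type u), (η ∈ W ↔ η ∈ Y ∧ η ∈ Z)) :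
    degOn k W hW E r + degOn k (Y ∪ Z) (hY.union hZ) E r = degOn k Y hY E r + degOn k Z hZ E r := by
  haveI := Euler.isNoetherian_of_proper (X := X) k
  have hQY := isQuotOn_toSubscheme k hY hYu
  have hQZ := isQuotOn_toSubscheme k hZ hZu
  have hQU := isQuotOn_toSubscheme k (hY.union hZ) (hYu.union hZu)
  have hQW := isQuotOn_toSubscheme k hW hWu
  obtain ⟨S₁, S₂, h1, h2, e11, e12, e22, e23, hC, hK, hgen⟩ :=
    exists_union_meet_seq k _ hasLines_structureModule Y Z W hYZW _ _ _ _ _ _ _ _ hQY hQZ hQU hQW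
  obtain ⟨hfin, hcl⟩ := SubCurve16.finite_of_notMem_genericPoints k hd (QCoh.isClosed_support_of_isCoh hK) hgen
  have hK0 : degFun k E r S₂.X₁ = 0 := by
    rw [degFun, Euler.euler_tF_of_finite_support k hE hK hfin hcl]
    ring
  have hB : Coh.IsCoh S₁.X₂ := e12 ▸ QCoh.isCoh_biprod' hQY.2.1 hQZ.2.1
  have a1 := degFun_add k hE h1 (e11 ▸ hQU.2.1) hB hC
  have a2 := degFun_add k hE h2 hK (e22 ▸ hC) (e23 ▸ hQW.2.1)
  have a3 := degFun_add k hE (S := ShortComplex.mk (biprod.inl : _ ⟶ ClSub.quotMod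
      (Scheme.IdealSheafData.vanishingIdeal ⟨Y, hY⟩) ⊞ ClSub.quotMod (Scheme.IdealSheafData.vanishingIdeal ⟨Z, hZ⟩))
      biprod.snd (by simp))
    (ShortComplex.Splitting.shortExact { r := biprod.fst, s := biprod.inr }) hQY.2.1
    (QCoh.isCoh_biprod' hQY.2.1 hQZ.2.1) hQZ.2.1
  rw [e22, e23, hK0, zero_add] at a2
  rw [e11, e12, a2] at a1
  simp only at a3
  rw [degOn_eq k W hW hE, degOn_eq k _ (hY.union hZ) hE, degOn_eq k Y hY hE, degOn_eq k Z hZ hE]
  omega

/-- A bundle has degree zero on the empty set. -/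
theorem degOn_empty {E : X.Modules} {r : ℕ}
    (hE : FlatMod.IsFinLocFreeOfRank r E) : degOn k (∅ : Set X) isClosed_empty E r = 0 := by
  have hQ := isQuotOn_toSubscheme k (X := X) isClosed_empty isUnion_empty
  rw [degOn_eq k _ _ hE, degFun, Euler.euler_tF_of_finite_support k hE hQ.2.1
    (Set.finite_empty.subset hQ.2.2.2.le) (fun x hx => (hQ.2.2.2.le hx).elim)]
  ring

/-- The degree on the whole space. -/
theorem degOn_univ {E : X.Modules} {r : ℕ} (hE : FlatMod.IsFinLocFreeOfRank r E) :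
    degOn k (Set.univ : Set X) isClosed_univ E r = Curv2.deg k X E r := by
  haveI := Euler.isNoetherian_of_proper (X := X) k
  have hQ := isQuotOn_toSubscheme k (X := X) isClosed_univ isUnion_univ
  have hOc : Coh.IsCoh (Coh.structureModule X) :=
    Euler.isCoh_of_isInvertible Euler.isInvertible_structure
  have htf : TorSh.IsTorsionFree (Coh.structureModule X) := isTorsionFree_structureModule
  have hsupp : CohB1.support (Coh.structureModule X) = Set.univ := support_structureModule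
  obtain ⟨e, -⟩ := exists_iso_quot k hasLines_structureModule
    (⟨inferInstance, hOc, htf, hsupp⟩ : TFOne.IsQuotOn X (Coh.structureModule X) Set.univ _ (𝟙 _)) hQ
    fun η _ => Iff.rfl
  rw [degOn_eq k _ _ hE, degFun, ← Euler.euler_of_iso k ((tF E).mapIso e), ← Euler.euler_of_iso k e,
    show Curv2.euler k X ((tF E).obj (Coh.structureModule X)) = Curv2.euler k X E from
    Euler.euler_of_iso k (OX.tensorUnitLeftIso E)]
  rfl

end GrothLib.TFSimple15
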