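import Groth.Agent.Lib.GenStalk29.Basic
import Mathlib.AlgebraicGeometry.Geometrically.Integral
import Mathlib.LinearAlgebra.FiniteDimensional.Basic
import Mathlib.RingTheory.AdjoinRoot
import Mathlib.RingTheory.Flat.Basic

/-!
The base field of a geometrically integral scheme is algebraically closed in its function field.
-/

set_option autoImplicit false
set_option linter.style.haveILetI false
set_option backward.isDefEq.respectTransparency false

universe u

open CategoryTheory CategoryTheory.Limits AlgebraicGeometry
open scoped TensorProduct

noncomputable section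

namespace GrothLib.TFSimple15

variable {k : Type u} [Field k]

/-- An element of a field extension generating a finite extension with `B ⊗ k(c)` a domain lies in the base. -/
theorem mem_range_of_isDomain_tensor {B : Type u} [Field B] [Algebra k B] {c : B} (hc : IsIntegral k c)
    (h : ∀ (L : Type u) [Field L] [Algebra k L], IsDomain (B ⊗[k] L)) : c ∈ (algebraMap k B).range := by
  haveI : Fact (Irreducible (minpoly k c)) := ⟨minpoly.irreducible hc⟩
  let L := AdjoinRoot (minpoly k c)
  haveI : FiniteDimensional k L := (AdjoinRoot.powerBasis (minpoly.ne_zero hc)).finite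
  let v : L →ₐ[k] B := AdjoinRoot.liftAlgHom (minpoly k c) (Algebra.ofId k B) c (minpoly.aeval k c)
  haveI := h L
  let ι : L ⊗[k] L →ₐ[k] B ⊗[k] L := Algebra.TensorProduct.map v (AlgHom.id k L)
  have hι : Function.Injective ι :=
    Module.Flat.rTensor_preserves_injective_linearMap (M := L) v.toLinearMap (RingHom.injective v.toRingHom)
  let m : L ⊗[k] L →ₐ[k] L := Algebra.TensorProduct.lmul' k
  have hm : Function.Injective m := by
    refine (injective_iff_map_eq_zero m).2 fun x hx => by_contra fun hne => ?_
    obtain ⟨y, hy⟩ := LinearMap.surjective_of_injective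
      (f := LinearMap.mulLeft k x) (fun a b hab => hι (mul_left_cancel₀ (a := ι x)
        (fun h0 => hne (hι (h0.trans (map_zero ι).symm))) (by
          rw [← map_mul, ← map_mul]; exact congrArg ι hab))) 1
    have h1 := congrArg m (show x * y = 1 from hy)
    rw [map_mul, hx, zero_mul, map_one] at h1
    exact zero_ne_one h1
  have hle : Module.finrank k (L ⊗[k] L) ≤ Module.finrank k L :=
    LinearMap.finrank_le_finrank_of_injective (f := m.toLinearMap) hm
  rw [Module.finrank_tensorProduct] at hle
  have h1 : Module.finrank k L = 1 := by
    have h0 : 0 < Module.finrank k L := Module.finrank_pos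
    nlinarith
  rw [(AdjoinRoot.powerBasis (minpoly.ne_zero hc)).finrank, AdjoinRoot.powerBasis_dim] at h1
  exact minpoly.natDegree_eq_one_iff.1 h1

/-- The base field is algebraically closed in the function field of a geometrically integral scheme. -/
theorem mem_range_of_geometricallyIntegral {C : Scheme.{u}} (q : C ⟶ Spec (CommRingCat.of k))
    [GeometricallyIntegral q] {A : Type u} [CommRing A] [IsDomain A] [Algebra k A]
    (a : Spec (CommRingCat.of A) ⟶ C) [IsOpenImmersion a]
    (ha : a ≫ q = Spec.map (CommRingCat.ofHom (algebraMap k A)))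
    {B : Type u} [Field B] [Algebra A B] [Algebra k B] [IsScalarTower k A B]
    (P : Ideal A) [P.IsPrime] [IsLocalization.AtPrime B P]
    {c : B} (hc : IsIntegral k c) : c ∈ (algebraMap k B).range := by
  refine mem_range_of_isDomain_tensor hc fun L _ _ => ?_
  haveI : IsDomain (A ⊗[k] L) := by
    let φ : Spec (CommRingCat.of L) ⟶ Spec (CommRingCat.of k) :=
      Spec.map (CommRingCat.ofHom (algebraMap k L))
    haveI : IsIntegral (pullback q φ) :=
      pullback_of_geometrically GeometricallyIntegral.geometrically_isIntegral _ φ
    haveI : Nontrivial (A ⊗[k] L) :=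
      (Algebra.TensorProduct.includeLeft_injective (S := k) (R := k) (A := A) (B := L)
        (FaithfulSMul.algebraMap_injective k L)).nontrivial
    let e : Spec (CommRingCat.of (A ⊗[k] L)) ≅ pullback (a ≫ q) φ :=
      (pullbackSpecIso k A L).symm ≪≫ pullback.congrHom ha.symm rfl
    let j : Spec (CommRingCat.of (A ⊗[k] L)) ⟶ pullback q φ :=
      e.hom ≫ (pullbackRightPullbackFstIso q φ a).inv ≫ pullback.snd a (pullback.fst q φ)
    haveI : IsOpenImmersion j := inferInstance
    haveI : Nonempty (Spec (CommRingCat.of (A ⊗[k] L))) := inferInstanceAs (Nonempty (PrimeSpectrum _))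
    haveI : IsIntegral (Spec (CommRingCat.of (A ⊗[k] L))) := isIntegral_of_isOpenImmersion j
    exact (Scheme.ΓSpecIso (CommRingCat.of (A ⊗[k] L))).commRingCatIsoToRingEquiv.toMulEquiv.isDomain_iff.1
      inferInstance
  exact GrothLib.GenStalk29.isDomain_tensor_localization (R := k) (A := A) P

end GrothLib.TFSimple15
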