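import Groth.Agent.Lib.TFSimple15.Excess

/-!
The numbers `r χ(F_T) + deg(E|_T)` of a modification.
-/

set_option autoImplicit false
set_option linter.style.haveILetI false
set_option backward.isDefEq.respectTransparency false

universe u

open CategoryTheory CategoryTheory.Limits AlgebraicGeometry TopologicalSpace Opposite
open GrothLib.QCoh (stalkLin)

noncomputable section

namespace GrothLib.TFSimple15

variable {X : Scheme.{u}}

theorem closure_generic_subset_iff {η : X} {T : Set X} (hT : IsClosed T) :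
    closure {η} ⊆ T ↔ η ∈ T :=
  (hT.closure_subset_iff).trans Set.singleton_subset_iff

theorem mem_sUnion_iff {η : X} (hη : η ∈ genericPoints (X : Type u)) (P : Set X → Prop) :
    η ∈ ⋃₀ {C | C ∈ irreducibleComponents (X : Type u) ∧ P C} ↔ P (closure {η}) := by
  constructor
  · rintro ⟨C, ⟨hC, hP⟩, hηC⟩
    have hsub : closure {η} ⊆ C :=
      (closure_generic_subset_iff (isClosed_of_mem_irreducibleComponents C hC)).2 hηC
    rwa [le_antisymm hsub (hη.2 hC.1 hsub)]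
  · exact fun h => ⟨_, ⟨hη, h⟩, subset_closure rfl⟩

theorem mem_meet_iff {η : X} (hη : η ∈ genericPoints (X : Type u)) {Y Z : Set X} (hY : IsClosed Y) (hZ : IsClosed Z) :
    η ∈ ⋃₀ {C | C ∈ irreducibleComponents (X : Type u) ∧ C ⊆ Y ∩ Z} ↔ η ∈ Y ∧ η ∈ Z := by
  rw [mem_sUnion_iff hη, closure_generic_subset_iff (hY.inter hZ)]
  rfl

theorem mem_compl_iff {η : X} (hη : η ∈ genericPoints (X : Type u)) {Y : Set X} (hY : IsClosed Y) :
    η ∈ ⋃₀ {C | C ∈ irreducibleComponents (X : Type u) ∧ ¬ C ⊆ Y} ↔ η ∉ Y := by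
  rw [mem_sUnion_iff hη, closure_generic_subset_iff hY]

theorem mem_outside_iff {η : X} (hη : η ∈ genericPoints (X : Type u)) {Y Z : Set X} (hY : IsClosed Y) (hZ : IsClosed Z) :
    η ∈ ⋃₀ {C | C ∈ irreducibleComponents (X : Type u) ∧ C ⊆ Z ∧ ¬ C ⊆ Y} ↔ η ∈ Z ∧ η ∉ Y := by
  rw [mem_sUnion_iff hη, closure_generic_subset_iff hY, closure_generic_subset_iff hZ]

theorem mem_support_of_tf1 {M : X.Modules} (hM : TFOne.IsTF1 X M) :
    ∀ η ∈ genericPoints (X : Type u), η ∈ CohB1.support M := fun η hη hs => by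
  haveI : Subsingleton (M.presheaf.stalk η) := hs
  obtain ⟨e⟩ := hM.2.2 η hη
  exact one_ne_zero (e.symm.map_eq_zero_iff.1 (Subsingleton.elim _ 0))

theorem irreducibleComponent_nonempty {C : Set X} (hC : C ∈ irreducibleComponents (X : Type u)) : C.Nonempty :=
  hC.1.nonempty

variable (k : Type u) [Field k] [X.Over (Spec (CommRingCat.of k))] [IsProper (X ↘ Spec (CommRingCat.of k))]
  [IsReduced X] (hd : topologicalKrullDim X ≤ 1) {E : X.Modules} {r : ℕ}

include k hd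

omit [IsReduced X] hd in
theorem euler_quot_empty {M G : X.Modules} {π : M ⟶ G} (hG : TFOne.IsQuotOn X M ∅ G π) :
    Curv2.euler k X G = 0 := by
  refine DecSh20.euler_zero k ?_
  rw [IsZero.iff_id_eq_zero]
  exact (OX.eq_zero_iff _).2 fun x => ModuleCat.hom_ext (LinearMap.ext fun v =>
    stalk_eq_zero_of_notMem hG (Set.notMem_empty x) _)

theorem rBeta_empty (hE : FlatMod.IsFinLocFreeOfRank r E) {M G : X.Modules} {π : M ⟶ G}
    {T : Set X} (hT : IsClosed T) (hG : TFOne.IsQuotOn X M T G π) (hempty : T = ∅) :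
    TFOne.rBeta X k (X ↘ Spec (CommRingCat.of k)) T hT E r G = 0 := by
  subst hempty
  rw [rBeta_eq, euler_quot_empty k hG, degOn_empty k hE, mul_zero, add_zero]

omit hd in
theorem rBeta_univ (hE : FlatMod.IsFinLocFreeOfRank r E) {M G : X.Modules} (hM : TFOne.IsTF1 X M) {π : M ⟶ G}
    {T : Set X} (hT : IsClosed T) (hG : TFOne.IsQuotOn X M T G π) (huniv : T = Set.univ) :
    TFOne.rBeta X k (X ↘ Spec (CommRingCat.of k)) T hT E r G =
      (r : ℤ) * Curv2.euler k X M + Curv2.deg k X E r := by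
  haveI := Euler.isNoetherian_of_proper (X := X) k
  subst huniv
  have hid : TFOne.IsQuotOn X M Set.univ M (𝟙 M) := ⟨inferInstance, hM.1, hM.2.1,
    support_eq_of_generic hM.1 hM.2.1 isUnion_univ fun η hη => iff_of_true (mem_support_of_tf1 hM η hη) trivial⟩
  obtain ⟨e, -⟩ := exists_iso_quot k (hasLines_of_tf1 hM) hid hG fun η _ => Iff.rfl
  rw [rBeta_eq, degOn_univ k hE, Euler.euler_of_iso k e]

/-- Semistability bounds the numbers of all unions of components. -/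
theorem rBeta_nonneg (hE : FlatMod.IsFinLocFreeOfRank r E) {M : X.Modules}
    (hss : TFOne.IsSemistable X k (X ↘ Spec (CommRingCat.of k)) M E r)
    (h0 : (r : ℤ) * Curv2.euler k X M + Curv2.deg k X E r = 0) {T : Set X} (hT : IsClosed T) (hTu : IsUnion T)
    {G : X.Modules} {π : M ⟶ G} (hG : TFOne.IsQuotOn X M T G π) :
    0 ≤ TFOne.rBeta X k (X ↘ Spec (CommRingCat.of k)) T hT E r G := by
  rcases T.eq_empty_or_nonempty with he | hne
  · rw [rBeta_empty k hd hE hT hG he]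
  · by_cases hu : T = Set.univ
    · rw [rBeta_univ k hE hss.1 hT hG hu, h0]
    · exact hss.2 T hT (hTu.subcurve hne) hu G π hG

variable {M M' GY : X.Modules} {Y : Set X} {πY : M ⟶ GY}
  (hM : TFOne.IsTF1 X M) (hM' : TFOne.IsTF1 X M') (hGY : TFOne.IsQuotOn X M Y GY πY)
  {j : GY ⟶ M'} {p : M' ⟶ kernel πY} {w : j ≫ p = 0} (hS : (ShortComplex.mk j p w).ShortExact)

include hM hM' hGY hS

/-- The excess in the inequality for a modification. -/
theorem rBeta_excess (hE : FlatMod.IsFinLocFreeOfRank r E) (hY : IsClosed Y) (hYu : IsUnion Y) {Z W V : Set X}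
    (hZ : IsClosed Z) (hZu : IsUnion Z) (hW : W = ⋃₀ {C | C ∈ irreducibleComponents (X : Type u) ∧ C ⊆ Y ∩ Z})
    (hWc : IsClosed W) (hV : V = ⋃₀ {C | C ∈ irreducibleComponents (X : Type u) ∧ C ⊆ Z ∧ ¬ C ⊆ Y})
    {GZ GW GU GV : X.Modules} {πZ : M' ⟶ GZ} {πW : M ⟶ GW} {πU : M ⟶ GU} {πV : M' ⟶ GV}
    (hGZ : TFOne.IsQuotOn X M' Z GZ πZ) (hGW : TFOne.IsQuotOn X M W GW πW)
    (hGU : TFOne.IsQuotOn X M (Y ∪ Z) GU πU) (hGV : TFOne.IsQuotOn X M' V GV πV) :
    TFOne.rBeta X k (X ↘ Spec (CommRingCat.of k)) W hWc E r GW +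
        TFOne.rBeta X k (X ↘ Spec (CommRingCat.of k)) (Y ∪ Z) (hY.union hZ) E r GU =
      TFOne.rBeta X k (X ↘ Spec (CommRingCat.of k)) Z hZ E r GZ +
        TFOne.rBeta X k (X ↘ Spec (CommRingCat.of k)) Y hY E r GY +
        (r : ℤ) * (Curv2.euler k X GW + Curv2.euler k X GV - Curv2.euler k X GZ) := by
  haveI := Euler.isNoetherian_of_proper (X := X) k
  have hWu : IsUnion W := hW ▸ isUnion_sUnion _
  have hVu : IsUnion V := hV ▸ isUnion_sUnion _
  have hWg : ∀ η ∈ genericPoints (X : Type u), (η ∈ W ↔ η ∈ Y ∧ η ∈ Z) := fun η hη => by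
    rw [hW]; exact mem_meet_iff hη hY hZ
  have hVg : ∀ η ∈ genericPoints (X : Type u), (η ∈ V ↔ η ∈ Y ∪ Z ∧ η ∉ Y) := fun η hη => by
    rw [hV, mem_outside_iff hη hY hZ]
    exact and_congr_left fun h => ⟨Or.inr, fun h' => h'.resolve_left h⟩
  have h1 := euler_union_eq k hM hM' hGY hS hVu hGU hGV (fun η _ h => Or.inl h) hVg
  have h2 := degOn_union k hd hE hY hZ hWc hYu hZu hWu hWg
  rw [rBeta_eq, rBeta_eq, rBeta_eq, rBeta_eq, h1]
  linear_combination h2

/-- The inequality for a modification. -/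
theorem rBeta_modification_le (hE : FlatMod.IsFinLocFreeOfRank r E) (hY : IsClosed Y) (hYu : IsUnion Y)
    {Z W : Set X} (hZ : IsClosed Z) (hZu : IsUnion Z)
    (hW : W = ⋃₀ {C | C ∈ irreducibleComponents (X : Type u) ∧ C ⊆ Y ∩ Z}) (hWc : IsClosed W)
    {GZ GW GU : X.Modules} {πZ : M' ⟶ GZ} {πW : M ⟶ GW} {πU : M ⟶ GU}
    (hGZ : TFOne.IsQuotOn X M' Z GZ πZ) (hGW : TFOne.IsQuotOn X M W GW πW)
    (hGU : TFOne.IsQuotOn X M (Y ∪ Z) GU πU) :
    TFOne.rBeta X k (X ↘ Spec (CommRingCat.of k)) W hWc E r GW +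
        TFOne.rBeta X k (X ↘ Spec (CommRingCat.of k)) (Y ∪ Z) (hY.union hZ) E r GU ≤
      TFOne.rBeta X k (X ↘ Spec (CommRingCat.of k)) Z hZ E r GZ +
        TFOne.rBeta X k (X ↘ Spec (CommRingCat.of k)) Y hY E r GY := by
  haveI := Euler.isNoetherian_of_proper (X := X) k
  have hVu : IsUnion (⋃₀ {C | C ∈ irreducibleComponents (X : Type u) ∧ C ⊆ Z ∧ ¬ C ⊆ Y}) := isUnion_sUnion _
  obtain ⟨GV, πV, hGV⟩ := exists_quotOn k hM'.1 hM'.2.1 (mem_support_of_tf1 hM') hVu.isClosed hVu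
  rw [rBeta_excess k hd hM hM' hGY hS hE hY hYu hZ hZu hW hWc rfl hGZ hGW hGU hGV]
  have h := (euler_meet_le k hd hM hM' hGY hS (hW ▸ isUnion_sUnion _) hVu hGZ hGW hGV
    (fun η hη => by rw [hW]; exact mem_meet_iff hη hY hZ) (fun η hη => mem_outside_iff hη hY hZ)).1
  have : (r : ℤ) * (Curv2.euler k X GW + Curv2.euler k X GV - Curv2.euler k X GZ) ≤ 0 :=
    mul_nonpos_of_nonneg_of_nonpos (Int.natCast_nonneg r) (by linarith)
  linarith

/-- The extension decomposes along `Y` exactly when `F'_Y` and `F_Y` have the same Euler characteristic. -/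
theorem isIso_lift_iff (hY : IsClosed Y) (hYu : IsUnion Y) {G1 G2 : X.Modules} {π1 : M' ⟶ G1} {π2 : M' ⟶ G2}
    {Y' : Set X} (hY' : Y' = ⋃₀ {C | C ∈ irreducibleComponents (X : Type u) ∧ ¬ C ⊆ Y})
    (hG1 : TFOne.IsQuotOn X M' Y G1 π1) (hG2 : TFOne.IsQuotOn X M' Y' G2 π2) :
    IsIso (biprod.lift π1 π2) ↔ Curv2.euler k X G1 = Curv2.euler k X GY := by
  haveI := Euler.isNoetherian_of_proper (X := X) k
  haveI := hM'.1.1
  have hY'u : IsUnion Y' := hY' ▸ isUnion_sUnion _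
  have hg' : ∀ η ∈ genericPoints (X : Type u), (η ∈ Y' ↔ η ∉ Y) := fun η hη => by
    rw [hY']; exact mem_compl_iff hη hY
  have hid : TFOne.IsQuotOn X M' Set.univ M' (𝟙 M') := ⟨inferInstance, hM'.1, hM'.2.1,
    support_eq_of_generic hM'.1 hM'.2.1 isUnion_univ fun η hη => iff_of_true (mem_support_of_tf1 hM' η hη) trivial⟩
  have hχ := (euler_meet_le k hd hM hM' hGY hS hYu hY'u hid hGY hG2
    (fun η _ => ⟨fun h => ⟨h, trivial⟩, fun h => h.1⟩)
    (fun η hη => ⟨fun h => ⟨trivial, (hg' η hη).1 h⟩, fun h => (hg' η hη).2 h.2⟩)).2 (fun η _ _ => trivial)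
  let f := biprod.lift π1 π2
  haveI : Epi π1 := hG1.1
  haveI : Epi π2 := hG2.1
  have hfd : ∀ (η : X) (m : M'.presheaf.stalk η), stalkLin f η m =
      stalkLin (biprod.inl : G1 ⟶ G1 ⊞ G2) η (stalkLin π1 η m) +
        stalkLin (biprod.inr : G2 ⟶ G1 ⊞ G2) η (stalkLin π2 η m) := fun η m => by
    rw [← QCoh.stalkLin_comp, ← QCoh.stalkLin_comp, ← QCoh.stalkLin_add]
    simp [f, biprod.lift_eq]
  haveI : Mono f := by
    refine Preadditive.mono_of_kernel_zero (hom_ext_generic k hM'.2.1 _ _ fun η hη v => ?_)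
    rw [stalkLin_zero]
    have h : stalkLin f η (stalkLin (kernel.ι f) η v) = 0 := by
      rw [← QCoh.stalkLin_comp, kernel.condition, stalkLin_zero]
    by_cases hηY : η ∈ Y
    · refine (hasLines_of_tf1 hM').stalk_injective hG1 hη hηY ?_
      have h' := congrArg (stalkLin (biprod.fst : G1 ⊞ G2 ⟶ G1) η) h
      rwa [map_zero, ← QCoh.stalkLin_comp f, biprod.lift_fst] at h'
    · refine (hasLines_of_tf1 hM').stalk_injective hG2 hη ((hg' η hη).2 hηY) ?_
      have h' := congrArg (stalkLin (biprod.snd : G1 ⊞ G2 ⟶ G2) η) h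
      rwa [map_zero, ← QCoh.stalkLin_comp f, biprod.lift_snd] at h'
  have hB : Coh.IsCoh (G1 ⊞ G2) := QCoh.isCoh_biprod' hG1.2.1 hG2.2.1
  have hC : Coh.IsCoh (cokernel f) := QCoh.isCoh_cokernel f hM'.1 hB
  have hgen : ∀ η ∈ genericPoints (X : Type u), η ∉ CohB1.support (cokernel f) := by
    intro η hη
    refine notMem_support_of_forall fun c => ?_
    obtain ⟨x, rfl⟩ := QCoh.stalkLin_surjective (cokernel.π f) η c
    have hx : stalkLin (biprod.inl : G1 ⟶ G1 ⊞ G2) η (stalkLin biprod.fst η x) +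
        stalkLin (biprod.inr : G2 ⟶ G1 ⊞ G2) η (stalkLin biprod.snd η x) = x := by
      rw [← QCoh.stalkLin_comp, ← QCoh.stalkLin_comp, ← QCoh.stalkLin_add, biprod.total, QCoh.stalkLin_id]
    suffices hl : ∃ m, stalkLin f η m = x by
      obtain ⟨m, rfl⟩ := hl
      rw [← QCoh.stalkLin_comp, cokernel.condition, stalkLin_zero]
    by_cases hηY : η ∈ Y
    · obtain ⟨m, hm⟩ := QCoh.stalkLin_surjective π1 η (stalkLin biprod.fst η x)
      have h0 : ∀ y : G2.presheaf.stalk η, y = 0 := stalk_eq_zero_of_notMem hG2 fun h => (hg' η hη).1 h hηY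
      exact ⟨m, by rw [hfd, hm, h0 (stalkLin π2 η m), ← h0 (stalkLin biprod.snd η x), hx]⟩
    · obtain ⟨m, hm⟩ := QCoh.stalkLin_surjective π2 η (stalkLin biprod.snd η x)
      have h0 : ∀ y : G1.presheaf.stalk η, y = 0 := stalk_eq_zero_of_notMem hG1 hηY
      exact ⟨m, by rw [hfd, hm, h0 (stalkLin π1 η m), ← h0 (stalkLin biprod.fst η x), hx]⟩
  have h1 := DecSh20.euler_cokernel k f hM'.1 hB
  have h2 := Euler.euler_additive k (S := ShortComplex.mk (biprod.inl : G1 ⟶ G1 ⊞ G2) biprod.snd (by simp))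
    (ShortComplex.Splitting.shortExact { r := biprod.fst, s := biprod.inr }) hG1.2.1 hB hG2.2.1
  simp only at h2
  constructor
  · intro hiso
    haveI : IsIso f := hiso
    rw [DecSh20.euler_zero k (isZero_cokernel_of_epi f)] at h1
    linarith
  · intro h
    haveI : Epi f := Preadditive.epi_of_isZero_cokernel _
      (isZero_of_euler_eq_zero k hd hC hgen (by linarith))
    exact isIso_of_mono_of_epi f

end GrothLib.TFSimple15
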