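import Groth.Agent.Lib.TFSimple15.Main
import Groth.Agent.Lib.DecSh20.Basic
import Groth.Agent.Lib.FibPd.SuppDimLocal
import Groth.Agent.Lib.QCoh.DevissageSummands

/-!
Euler characteristics of the torsion-free quotients on the union and the meet of two subcurves.
-/

set_option autoImplicit false
set_option linter.style.haveILetI false
set_option backward.isDefEq.respectTransparency false

universe u

open CategoryTheory CategoryTheory.Limits AlgebraicGeometry TopologicalSpace Opposite
open GrothLib.QCoh (stalkLin)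

noncomputable section

namespace GrothLib.TFSimple15

variable {X : Scheme.{u}} [IsReduced X]

/-- The quotient of a rank one sheaf is bijective at the generic points of its support. -/
theorem stalk_injective_of_mem {M G : X.Modules} (hM : TFOne.IsTF1 X M) {T : Set X} {π : M ⟶ G}
    (hG : TFOne.IsQuotOn X M T G π) {η : X} (hη : η ∈ genericPoints (X : Type u)) (hT : η ∈ T)
    {m : M.presheaf.stalk η} (hm : stalkLin π η m = 0) : m = 0 := by
  by_contra hne
  haveI : Epi π := hG.1
  obtain ⟨e⟩ := hM.2.2 η hη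
  obtain ⟨a, b, hab⟩ :=
    (not_subsingleton_iff_nontrivial.1 (show η ∈ CohB1.support G from hG.2.2.2.symm ▸ hT)).exists_pair_ne
  have h0 : ∀ x : G.presheaf.stalk η, x = 0 := by
    intro x
    obtain ⟨v, rfl⟩ := QCoh.stalkLin_surjective π η x
    obtain ⟨r, hr⟩ := (GrothLib.SubCurve16.isField_stalk hη).mul_inv_cancel
      (fun h => hne (e.map_eq_zero_iff.1 h) : e m ≠ 0)
    have : v = (e v * r) • m := e.injective (by rw [map_smul, smul_eq_mul, mul_assoc, mul_comm r, hr, mul_one])
    rw [this, map_smul, hm, smul_zero]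
  exact hab ((h0 a).trans (h0 b).symm)

omit [IsReduced X] in
theorem stalk_eq_zero_of_notMem {M G : X.Modules} {T : Set X} {π : M ⟶ G}
    (hG : TFOne.IsQuotOn X M T G π) {η : X} (hT : η ∉ T) (x : G.presheaf.stalk η) : x = 0 := by
  have : Subsingleton (G.presheaf.stalk η) := by
    by_contra h
    exact hT (hG.2.2.2 ▸ (show η ∈ CohB1.support G from h))
  exact Subsingleton.elim _ _

/-- Quotients on smaller subsets factor through quotients on larger ones. -/
theorem exists_factor (k : Type u) [Field k] [X.Over (Spec (CommRingCat.of k))]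
    [IsProper (X ↘ Spec (CommRingCat.of k))] {M G H : X.Modules} (hM : TFOne.IsTF1 X M) {T S : Set X}
    {π : M ⟶ G} (hG : TFOne.IsQuotOn X M T G π) {ρ : M ⟶ H} (hH : TFOne.IsQuotOn X M S H ρ) (hST : S ⊆ T) :
    ∃ q : G ⟶ H, π ≫ q = ρ := by
  haveI : Epi π := hG.1
  haveI := hH.2.1.1
  have hker : kernel.ι π ≫ ρ = 0 := by
    refine hom_ext_generic k hH.2.2.1 _ _ fun η hη v => ?_
    rw [stalkLin_zero]
    by_cases hS : η ∈ S
    · rw [QCoh.stalkLin_comp, stalk_injective_of_mem hM hG hη (hST hS) (m := stalkLin (kernel.ι π) η v)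
        (by rw [← QCoh.stalkLin_comp, kernel.condition, stalkLin_zero]), map_zero]
    · exact stalk_eq_zero_of_notMem hH hS _
  exact ⟨Abelian.epiDesc π ρ hker, Abelian.comp_epiDesc π _ _⟩

/-- `χ` of the quotients on the union and the meet is at most the sum of `χ` of the two quotients. -/
theorem euler_union_meet_le (k : Type u) [Field k] [X.Over (Spec (CommRingCat.of k))]
    [IsProper (X ↘ Spec (CommRingCat.of k))]
    (hpure : ∀ C ∈ irreducibleComponents (X : Type u), topologicalKrullDim C = 1)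
    (M : X.Modules) (hM : TFOne.IsTF1 X M) (Y Z W : Set X) (hY : IsClosed Y) (hZ : IsClosed Z)
    (hW : W = ⋃₀ {C | C ∈ irreducibleComponents (X : Type u) ∧ C ⊆ Y ∩ Z})
    (GY GZ GU GW : X.Modules) (πY : M ⟶ GY) (πZ : M ⟶ GZ) (πU : M ⟶ GU) (πW : M ⟶ GW)
    (hGY : TFOne.IsQuotOn X M Y GY πY) (hGZ : TFOne.IsQuotOn X M Z GZ πZ)
    (hGU : TFOne.IsQuotOn X M (Y ∪ Z) GU πU) (hGW : TFOne.IsQuotOn X M W GW πW) :
    Curv2.euler k X GU + Curv2.euler k X GW ≤ Curv2.euler k X GY + Curv2.euler k X GZ := by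
  haveI := Euler.isNoetherian_of_proper (X := X) k
  have hd : topologicalKrullDim X ≤ 1 :=
    FibPd.topologicalKrullDim_le_of_components fun C hC => (hpure C hC).le
  have hWY : W ⊆ Y := hW ▸ Set.sUnion_subset fun C hC => hC.2.trans Set.inter_subset_left
  have hWZ : W ⊆ Z := hW ▸ Set.sUnion_subset fun C hC => hC.2.trans Set.inter_subset_right
  obtain ⟨pY, hpY⟩ := exists_factor k hM hGU hGY Set.subset_union_left
  obtain ⟨pZ, hpZ⟩ := exists_factor k hM hGU hGZ Set.subset_union_right
  obtain ⟨qY, hqY⟩ := exists_factor k hM hGY hGW hWY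
  obtain ⟨qZ, hqZ⟩ := exists_factor k hM hGZ hGW hWZ
  haveI : Epi πU := hGU.1
  haveI : Epi πW := hGW.1
  haveI : Epi qY := epi_of_epi_fac hqY
  let f : GU ⟶ GY ⊞ GZ := biprod.lift pY pZ
  let g : GY ⊞ GZ ⟶ GW := biprod.desc qY (-qZ)
  have hfg : f ≫ g = 0 := by
    rw [← cancel_epi πU, biprod.lift_desc, Preadditive.comp_add, Preadditive.comp_neg,
      Preadditive.comp_neg, reassoc_of% hpY, reassoc_of% hpZ, hqY, hqZ, add_neg_cancel, comp_zero]
  haveI : Epi g := epi_of_epi_fac (biprod.inl_desc qY (-qZ))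
  haveI : Mono f := by
    haveI := hGU.2.1.1
    refine Preadditive.mono_of_kernel_zero (hom_ext_generic k hGU.2.2.1 _ _ fun η hη v => ?_)
    rw [stalkLin_zero]
    obtain ⟨m, hm⟩ := QCoh.stalkLin_surjective πU η (stalkLin (kernel.ι f) η v)
    rw [← hm]
    have hp : ∀ {G : X.Modules} (p : GY ⊞ GZ ⟶ G), stalkLin (πU ≫ f ≫ p) η m = 0 := by
      intro G p
      rw [QCoh.stalkLin_comp, QCoh.stalkLin_comp, hm, ← QCoh.stalkLin_comp (kernel.ι f) f, kernel.condition,
        stalkLin_zero, map_zero]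
    have h1 : stalkLin πY η m = 0 := by
      rw [← hpY, ← hp biprod.fst, biprod.lift_fst]
    have h2 : stalkLin πZ η m = 0 := by
      rw [← hpZ, ← hp biprod.snd, biprod.lift_snd]
    by_cases hU : η ∈ Y ∪ Z
    · rcases hU with h | h
      · rw [stalk_injective_of_mem hM hGY hη h h1, map_zero]
      · rw [stalk_injective_of_mem hM hGZ hη h h2, map_zero]
    · exact stalk_eq_zero_of_notMem hGU hU _
  have hB : Coh.IsCoh (GY ⊞ GZ) := QCoh.isCoh_biprod' hGY.2.1 hGZ.2.1
  let g' : cokernel f ⟶ GW := cokernel.desc f g hfg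
  haveI : Epi g' := epi_of_epi_fac (cokernel.π_desc f g hfg)
  have hC : Coh.IsCoh (cokernel f) := QCoh.isCoh_cokernel f hGU.2.1 hB
  have hK : Coh.IsCoh (kernel g') := QCoh.isCoh_kernel g' hC hGW.2.1
  have hKgen : ∀ η ∈ genericPoints (X : Type u), η ∉ CohB1.support (kernel g') := by
    intro η hη hs
    apply hs
    refine ⟨fun a b => ?_⟩
    suffices H : ∀ a : (kernel g').presheaf.stalk η, a = 0 from (H a).trans (H b).symm
    intro a
    apply QCoh.stalkLin_injective (kernel.ι g') η
    rw [map_zero]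
    obtain ⟨x, hx⟩ := QCoh.stalkLin_surjective (cokernel.π f) η (stalkLin (kernel.ι g') η a)
    have hgx : stalkLin g η x = 0 := by
      rw [← cokernel.π_desc f g hfg, QCoh.stalkLin_comp, hx, ← QCoh.stalkLin_comp, kernel.condition, stalkLin_zero]
    rw [← hx]
    -- it suffices to lift to the source of `f`
    suffices hl : ∃ m, stalkLin f η (stalkLin πU η m) = x by
      obtain ⟨m, rfl⟩ := hl
      rw [← QCoh.stalkLin_comp, cokernel.condition, stalkLin_zero]
    have hxdec : stalkLin (biprod.inl : GY ⟶ GY ⊞ GZ) η (stalkLin biprod.fst η x) +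
        stalkLin (biprod.inr : GZ ⟶ GY ⊞ GZ) η (stalkLin biprod.snd η x) = x := by
      rw [← QCoh.stalkLin_comp, ← QCoh.stalkLin_comp, ← QCoh.stalkLin_add, biprod.total, QCoh.stalkLin_id]
    have key : ∀ m, stalkLin πY η m = stalkLin biprod.fst η x → stalkLin πZ η m = stalkLin biprod.snd η x →
        stalkLin f η (stalkLin πU η m) = x := by
      intro m h1 h2
      rw [← hxdec, ← h1, ← h2, ← hpY, ← hpZ]
      simp only [← QCoh.stalkLin_comp, ← QCoh.stalkLin_add]
      congr 1
      congr 1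
      simp [f, biprod.lift_eq]
    haveI : Epi πY := hGY.1
    haveI : Epi πZ := hGZ.1
    by_cases hηY : η ∈ Y
    · obtain ⟨m, hm⟩ := QCoh.stalkLin_surjective πY η (stalkLin biprod.fst η x)
      refine ⟨m, key m hm ?_⟩
      by_cases hηZ : η ∈ Z
      · have hηW : η ∈ W := hW ▸ ⟨closure {η}, ⟨hη, closure_minimal (Set.singleton_subset_iff.2 ⟨hηY, hηZ⟩)
          (hY.inter hZ)⟩, subset_closure rfl⟩
        obtain ⟨n, hn⟩ := QCoh.stalkLin_surjective πZ η (stalkLin biprod.snd η x)
        rw [← hn]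
        congr 1
        have hs : stalkLin (qY + -0) η (stalkLin biprod.fst η x) = stalkLin qZ η (stalkLin biprod.snd η x) := by
          have h := hgx
          rw [← hxdec, map_add, ← QCoh.stalkLin_comp (biprod.inl : GY ⟶ _) g, biprod.inl_desc,
            ← QCoh.stalkLin_comp (biprod.inr : GZ ⟶ _) g, biprod.inr_desc] at h
          have hneg : ∀ y, stalkLin (-qZ) η y + stalkLin qZ η y = 0 := fun y => by
            rw [← QCoh.stalkLin_add, neg_add_cancel, stalkLin_zero]
          rw [neg_zero, add_zero]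
          exact (add_neg_eq_zero.1 ((congrArg (stalkLin qY η _ + ·) (neg_eq_of_add_eq_zero_left (hneg _))).trans h))
        rw [neg_zero, add_zero, ← hm, ← hn, ← QCoh.stalkLin_comp, hqY, ← QCoh.stalkLin_comp, hqZ] at hs
        exact sub_eq_zero.1 (stalk_injective_of_mem hM hGW hη hηW (by rw [map_sub, hs, sub_self]))
      · exact (stalk_eq_zero_of_notMem hGZ hηZ _).trans (stalk_eq_zero_of_notMem hGZ hηZ _).symm
    · obtain ⟨m, hm⟩ := QCoh.stalkLin_surjective πZ η (stalkLin biprod.snd η x)
      exact ⟨m, key m ((stalk_eq_zero_of_notMem hGY hηY _).trans (stalk_eq_zero_of_notMem hGY hηY _).symm) hm⟩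
  have h0 : 0 ≤ Curv2.euler k X (kernel g') := by
    rw [← DecSh20.euler_eq_h0 k hd hK (SubCurve16.subsingleton_H1_of_generic k hd hK hKgen)]
    exact Nat.cast_nonneg _
  have e1 := DecSh20.euler_cokernel k f hGU.2.1 hB
  have e2 := Euler.euler_additive k (S := ShortComplex.mk (kernel.ι g') g' (kernel.condition g'))
    { exact := ShortComplex.exact_of_f_is_kernel _ (kernelIsKernel g') } hK hC hGW.2.1
  have e3 := Euler.euler_additive k (S := ShortComplex.mk (biprod.inl : GY ⟶ GY ⊞ GZ) biprod.snd (by simp))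
    (ShortComplex.Splitting.shortExact { r := biprod.fst, s := biprod.inr }) hGY.2.1 hB hGZ.2.1
  simp only at e2 e3
  omega

end GrothLib.TFSimple15
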