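import Groth.Agent.Lib.TFSimple15.Quot
import Groth.Agent.Lib.Euler.Section

/-!
Euler characteristics of the torsion-free quotients of an extension `0 → F_Y → F' → ker (F → F_Y) → 0`.
-/

set_option autoImplicit false
set_option linter.style.haveILetI false
set_option backward.isDefEq.respectTransparency false

universe u

open CategoryTheory CategoryTheory.Limits AlgebraicGeometry TopologicalSpace Opposite
open GrothLib.QCoh (stalkLin)

noncomputable section

namespace GrothLib.TFSimple15

variable {X : Scheme.{u}}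

theorem exists_stalk_kernel {M N : X.Modules} (f : M ⟶ N) (x : X) {v : M.presheaf.stalk x}
    (h : stalkLin f x v = 0) : ∃ w, stalkLin (kernel.ι f) x w = v :=
  (ShortComplex.moduleCat_exact_iff _).1 ((OX.exact_iff _).1 (ShortComplex.exact_kernel f) x) v h

theorem exists_stalk_of_exact {S : ShortComplex X.Modules} (hS : S.Exact) (x : X)
    {v : S.X₂.presheaf.stalk x} (h : stalkLin S.g x v = 0) : ∃ w, stalkLin S.f x w = v :=
  (ShortComplex.moduleCat_exact_iff _).1 ((OX.exact_iff _).1 hS x) v h

theorem notMem_support_of_forall {M : X.Modules} {x : X} (h : ∀ v : M.presheaf.stalk x, v = 0) :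
    x ∉ CohB1.support M := fun hs => hs ⟨fun a b => (h a).trans (h b).symm⟩

variable [IsReduced X]

/-- The support of a torsion-free coherent sheaf is determined by the generic points in it. -/
theorem support_eq_of_generic [NoetherianSpace X] [IsLocallyNoetherian X] {G : X.Modules} (hG : Coh.IsCoh G)
    (htf : TorSh.IsTorsionFree G) {T : Set X} (hT : IsUnion T)
    (hg : ∀ η ∈ genericPoints (X : Type u), (η ∈ CohB1.support G ↔ η ∈ T)) : CohB1.support G = T := by
  haveI := hG.1
  refine Set.Subset.antisymm (fun x hx => ?_)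
    (hT.subset_of_generic (QCoh.isClosed_support_of_isCoh hG) fun η hη h => (hg η hη).2 h)
  by_contra hxT
  refine notMem_support_of_forall (fun v => ?_) hx
  obtain ⟨W, hW, s, rfl⟩ := TopCat.Presheaf.exists_germ_eq G.presheaf v
  let W' : X.Opens := W ⊓ ⟨Tᶜ, hT.isClosed.isOpen_compl⟩
  have hxW' : x ∈ W' := ⟨hW, hxT⟩
  rw [← TopCat.Presheaf.germ_res_apply G.presheaf (homOfLE (inf_le_left : W' ≤ W)) x hxW' s]
  have h0 : G.presheaf.map (homOfLE (inf_le_left : W' ≤ W)).op s = 0 :=
    detect_of_isTorsionFree htf W' _ fun η hη hgen => by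
      have : Subsingleton (G.presheaf.stalk η) := by
        by_contra h
        exact hη.2 ((hg η hgen).1 h)
      exact Subsingleton.elim _ _
  exact (congrArg (G.presheaf.germ W' x hxW') h0).trans (map_zero _)

variable (k : Type u) [Field k] [X.Over (Spec (CommRingCat.of k))] [IsProper (X ↘ Spec (CommRingCat.of k))]
  (hd : topologicalKrullDim X ≤ 1)

include k hd

omit [IsReduced X] in
theorem euler_nonneg_of_generic {C : X.Modules} (hC : Coh.IsCoh C)
    (hgen : ∀ η ∈ genericPoints (X : Type u), η ∉ CohB1.support C) : 0 ≤ Curv2.euler k X C := by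
  rw [← DecSh20.euler_eq_h0 k hd hC (SubCurve16.subsingleton_H1_of_generic k hd hC hgen)]
  exact Nat.cast_nonneg _

omit [IsReduced X] in
theorem isZero_of_euler_eq_zero {C : X.Modules} (hC : Coh.IsCoh C)
    (hgen : ∀ η ∈ genericPoints (X : Type u), η ∉ CohB1.support C) (h : Curv2.euler k X C = 0) : IsZero C := by
  haveI := hC.1
  obtain ⟨hfin, hcl⟩ := SubCurve16.finite_of_notMem_genericPoints k hd (QCoh.isClosed_support_of_isCoh hC) hgen
  haveI := Euler.finiteDimensional_HH k hC 0
  rw [Euler.euler_eq_of_finite_support k C hfin hcl, Nat.cast_eq_zero] at h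
  exact Euler.isZero_of_subsingleton_H0 C hfin hcl (Module.finrank_zero_iff.1 h)

variable {M M' GY : X.Modules} {Y : Set X} {πY : M ⟶ GY}
  (hM : TFOne.IsTF1 X M) (hM' : TFOne.IsTF1 X M') (hGY : TFOne.IsQuotOn X M Y GY πY)
  {j : GY ⟶ M'} {p : M' ⟶ kernel πY} {w : j ≫ p = 0} (hS : (ShortComplex.mk j p w).ShortExact)

include hM hM' hGY hS

omit hd in
/-- The kernel of the quotient is the torsion-free quotient of the extension on the complementary subcurve. -/
theorem isQuotOn_kernel {V : Set X} (hV : IsUnion V)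
    (hVg : ∀ η ∈ genericPoints (X : Type u), (η ∈ V ↔ η ∉ Y)) :
    TFOne.IsQuotOn X M' V (kernel πY) p := by
  haveI := Euler.isNoetherian_of_proper (X := X) k
  haveI : Epi p := hS.epi_g
  have hK : Coh.IsCoh (kernel πY) := QCoh.isCoh_kernel _ hM.1 hGY.2.1
  have htf : TorSh.IsTorsionFree (kernel πY) := fun x => by
    haveI : Module.IsTorsionFree (X.presheaf.stalk x) (M.presheaf.stalk x) := hM.2.1 x
    exact (QCoh.stalkLin_injective (kernel.ι πY) x).moduleIsTorsionFree _ fun r v => map_smul _ r v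
  refine ⟨inferInstance, hK, htf, support_eq_of_generic hK htf hV fun η hη => ?_⟩
  constructor
  · intro hs
    refine (hVg η hη).2 fun hηY => notMem_support_of_forall (fun v => ?_) hs
    apply QCoh.stalkLin_injective (kernel.ι πY) η
    rw [map_zero]
    exact (hasLines_of_tf1 hM).stalk_injective hGY hη hηY
      (by rw [← QCoh.stalkLin_comp, kernel.condition, stalkLin_zero])
  · intro hηV hs
    haveI : Subsingleton ((kernel πY).presheaf.stalk η) := hs
    obtain ⟨e⟩ := hM.2.2 η hη
    obtain ⟨v, hv⟩ := exists_stalk_kernel πY η (v := e.symm 1)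
      (stalk_eq_zero_of_notMem hGY ((hVg η hη).1 hηV) _)
    rw [Subsingleton.elim v 0, map_zero] at hv
    exact one_ne_zero (e.symm.map_eq_zero_iff.1 hv.symm)

omit hd in
/-- The Euler characteristic of the quotient on a union. -/
theorem euler_union_eq {U V : Set X} (hVu : IsUnion V) {GU GV : X.Modules} {πU : M ⟶ GU} {πV : M' ⟶ GV}
    (hGU : TFOne.IsQuotOn X M U GU πU) (hGV : TFOne.IsQuotOn X M' V GV πV)
    (hYU : ∀ η ∈ genericPoints (X : Type u), η ∈ Y → η ∈ U)
    (hVg : ∀ η ∈ genericPoints (X : Type u), (η ∈ V ↔ η ∈ U ∧ η ∉ Y)) :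
    Curv2.euler k X GU = Curv2.euler k X GY + Curv2.euler k X GV := by
  haveI := Euler.isNoetherian_of_proper (X := X) k
  haveI : Epi πU := hGU.1
  haveI : Epi πY := hGY.1
  haveI : Epi p := hS.epi_g
  obtain ⟨pU, hpU⟩ := exists_factor' k (hasLines_of_tf1 hM) hGU hGY hYU
  haveI : Epi pU := epi_of_epi_fac hpU
  let l : kernel πY ⟶ kernel pU := kernel.lift pU (kernel.ι πY ≫ πU)
    (by rw [Category.assoc, hpU, kernel.condition])
  have hl : ∀ x v, stalkLin (kernel.ι pU) x (stalkLin l x v) = stalkLin πU x (stalkLin (kernel.ι πY) x v) :=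
    fun x v => by rw [← QCoh.stalkLin_comp, kernel.lift_ι, QCoh.stalkLin_comp]
  haveI : Epi l := (OX.epi_iff l).2 fun x => (ModuleCat.epi_iff_surjective _).2 fun v => by
    obtain ⟨m, hm⟩ := QCoh.stalkLin_surjective πU x (stalkLin (kernel.ι pU) x v)
    obtain ⟨n, hn⟩ := exists_stalk_kernel πY x (v := m) (by
      rw [← hpU, QCoh.stalkLin_comp, hm, ← QCoh.stalkLin_comp, kernel.condition, stalkLin_zero])
    exact ⟨n, QCoh.stalkLin_injective (kernel.ι pU) x (by rw [← hm, ← hn]; exact hl x n)⟩
  have hL : Coh.IsCoh (kernel pU) := QCoh.isCoh_kernel _ hGU.2.1 hGY.2.1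
  have htf : TorSh.IsTorsionFree (kernel pU) := fun x => by
    haveI : Module.IsTorsionFree (X.presheaf.stalk x) (GU.presheaf.stalk x) := hGU.2.2.1 x
    exact (QCoh.stalkLin_injective (kernel.ι pU) x).moduleIsTorsionFree _ fun r v => map_smul _ r v
  have hQ : TFOne.IsQuotOn X M' V (kernel pU) (p ≫ l) := by
    refine ⟨inferInstance, hL, htf, support_eq_of_generic hL htf hVu fun η hη => ?_⟩
    constructor
    · intro hs
      refine (hVg η hη).2 ⟨?_, ?_⟩
      · by_contra hηU
        exact notMem_support_of_forall (fun v => QCoh.stalkLin_injective (kernel.ι pU) η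
          ((stalk_eq_zero_of_notMem hGU hηU _).trans (map_zero _).symm)) hs
      · intro hηY
        refine notMem_support_of_forall (fun v => QCoh.stalkLin_injective (kernel.ι pU) η ?_) hs
        rw [map_zero]
        obtain ⟨m, hm⟩ := QCoh.stalkLin_surjective πU η (stalkLin (kernel.ι pU) η v)
        have hm0 : m = 0 := (hasLines_of_tf1 hM).stalk_injective hGY hη hηY (by
          rw [← hpU, QCoh.stalkLin_comp, hm, ← QCoh.stalkLin_comp, kernel.condition, stalkLin_zero])
        rw [← hm, hm0, map_zero]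
    · intro hηV hs
      haveI : Subsingleton ((kernel pU).presheaf.stalk η) := hs
      obtain ⟨hηU, hηY⟩ := (hVg η hη).1 hηV
      refine (show η ∈ CohB1.support GU from hGU.2.2.2.symm ▸ hηU) ⟨?_⟩
      suffices H : ∀ a : GU.presheaf.stalk η, a = 0 from fun a b => (H a).trans (H b).symm
      intro a
      obtain ⟨v, rfl⟩ := exists_stalk_kernel pU η (v := a) (stalk_eq_zero_of_notMem hGY hηY _)
      rw [Subsingleton.elim v 0, map_zero]
  obtain ⟨e, -⟩ := exists_iso_quot k (hasLines_of_tf1 hM') hGV hQ fun η _ => Iff.rfl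
  have h := Euler.euler_additive k (S := ShortComplex.mk (kernel.ι pU) pU (kernel.condition pU))
    { exact := ShortComplex.exact_kernel pU } hL hGU.2.1 hGY.2.1
  simp only at h
  rw [h, Euler.euler_of_iso k e, add_comm]

/-- The Euler characteristics of the quotients on a subcurve and on its parts inside and outside `Y`. -/
theorem euler_meet_le {Z W V : Set X} (hWu : IsUnion W) (hVu : IsUnion V) {GZ GW GV : X.Modules} {πZ : M' ⟶ GZ} {πW : M ⟶ GW}
    {πV : M' ⟶ GV} (hGZ : TFOne.IsQuotOn X M' Z GZ πZ) (hGW : TFOne.IsQuotOn X M W GW πW)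
    (hGV : TFOne.IsQuotOn X M' V GV πV)
    (hWg : ∀ η ∈ genericPoints (X : Type u), (η ∈ W ↔ η ∈ Y ∧ η ∈ Z))
    (hVg : ∀ η ∈ genericPoints (X : Type u), (η ∈ V ↔ η ∈ Z ∧ η ∉ Y)) :
    Curv2.euler k X GW + Curv2.euler k X GV ≤ Curv2.euler k X GZ ∧
      ((∀ η ∈ genericPoints (X : Type u), η ∉ Y → η ∈ Z) →
        Curv2.euler k X GW + Curv2.euler k X GV = Curv2.euler k X GZ) := by
  haveI := Euler.isNoetherian_of_proper (X := X) k
  haveI : Epi πZ := hGZ.1
  haveI : Epi πY := hGY.1
  haveI : Epi πV := hGV.1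
  obtain ⟨q, hq⟩ := exists_factor' k (hasLines_of_tf1 hM') hGZ hGV fun η hη h => ((hVg η hη).1 h).1
  haveI : Epi q := epi_of_epi_fac hq
  haveI := hGY.2.1.1
  haveI := hGV.2.1.1
  have ha0 : (j ≫ πZ) ≫ q = 0 := by
    rw [Category.assoc, hq]
    refine hom_ext_generic k hGV.2.2.1 _ _ fun η hη v => ?_
    rw [stalkLin_zero]
    by_cases h : η ∈ Y
    · exact stalk_eq_zero_of_notMem hGV (fun hV => ((hVg η hη).1 hV).2 h) _
    · rw [stalk_eq_zero_of_notMem hGY h v, map_zero]
  let a : GY ⟶ kernel q := kernel.lift q (j ≫ πZ) ha0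
  have hQ : Coh.IsCoh (kernel q) := QCoh.isCoh_kernel _ hGZ.2.1 hGV.2.1
  let A := Abelian.image a
  have hA : Coh.IsCoh A := QCoh.isCoh_kernel _ hQ (QCoh.isCoh_cokernel _ hGY.2.1 hQ)
  have hAtf : TorSh.IsTorsionFree A := fun x => by
    haveI : Module.IsTorsionFree (X.presheaf.stalk x) (GZ.presheaf.stalk x) := hGZ.2.2.1 x
    exact (QCoh.stalkLin_injective (Abelian.image.ι a ≫ kernel.ι q) x).moduleIsTorsionFree _
      fun r v => map_smul _ r v
  have haf : ∀ x g, stalkLin (Abelian.image.ι a ≫ kernel.ι q) x (stalkLin (Abelian.factorThruImage a) x g) =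
      stalkLin πZ x (stalkLin j x g) := fun x g => by
    rw [← QCoh.stalkLin_comp, ← Category.assoc, Abelian.image.fac, kernel.lift_ι, QCoh.stalkLin_comp]
  have hQA : TFOne.IsQuotOn X M W A (πY ≫ Abelian.factorThruImage a) := by
    refine ⟨inferInstance, hA, hAtf, support_eq_of_generic hA hAtf hWu fun η hη => ?_⟩
    constructor
    · intro hs
      refine (hWg η hη).2 ⟨?_, ?_⟩
      · by_contra hηY
        refine notMem_support_of_forall (fun v => ?_) hs
        obtain ⟨g, rfl⟩ := QCoh.stalkLin_surjective (Abelian.factorThruImage a) η v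
        rw [stalk_eq_zero_of_notMem hGY hηY g, map_zero]
      · by_contra hηZ
        exact notMem_support_of_forall (fun v => QCoh.stalkLin_injective (Abelian.image.ι a ≫ kernel.ι q) η
          ((stalk_eq_zero_of_notMem hGZ hηZ _).trans (map_zero _).symm)) hs
    · intro hηW hs
      haveI : Subsingleton (A.presheaf.stalk η) := hs
      obtain ⟨hηY, hηZ⟩ := (hWg η hη).1 hηW
      refine (show η ∈ CohB1.support GY from hGY.2.2.2.symm ▸ hηY) ⟨?_⟩
      suffices H : ∀ g : GY.presheaf.stalk η, g = 0 from fun g g' => (H g).trans (H g').symm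
      intro g
      haveI : Mono j := hS.mono_f
      apply QCoh.stalkLin_injective j η
      rw [map_zero]
      refine (hasLines_of_tf1 hM').stalk_injective hGZ hη hηZ ?_
      rw [← haf, Subsingleton.elim (stalkLin (Abelian.factorThruImage a) η g) 0, map_zero]
  obtain ⟨e, -⟩ := exists_iso_quot k (hasLines_of_tf1 hM) hGW hQA fun η _ => Iff.rfl
  have hC : Coh.IsCoh (cokernel (Abelian.image.ι a)) := QCoh.isCoh_cokernel _ hA hQ
  have hlift : ∀ (x : X) (v : (kernel q).presheaf.stalk x) (g : GY.presheaf.stalk x),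
      stalkLin πZ x (stalkLin j x g) = stalkLin (kernel.ι q) x v →
      stalkLin (cokernel.π (Abelian.image.ι a)) x v = 0 := by
    intro x v g hg
    have : stalkLin (Abelian.image.ι a) x (stalkLin (Abelian.factorThruImage a) x g) = v :=
      QCoh.stalkLin_injective (kernel.ι q) x (by rw [← QCoh.stalkLin_comp, haf, hg])
    rw [← this, ← QCoh.stalkLin_comp, cokernel.condition, stalkLin_zero]
  have hgen : ∀ η ∈ genericPoints (X : Type u), η ∉ CohB1.support (cokernel (Abelian.image.ι a)) := by
    intro η hη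
    refine notMem_support_of_forall fun c => ?_
    obtain ⟨v, rfl⟩ := QCoh.stalkLin_surjective (cokernel.π (Abelian.image.ι a)) η c
    obtain ⟨m, hm⟩ := QCoh.stalkLin_surjective πZ η (stalkLin (kernel.ι q) η v)
    by_cases hηY : η ∈ Y
    · have hp0 : stalkLin p η m = 0 := by
        apply QCoh.stalkLin_injective (kernel.ι πY) η
        rw [map_zero]
        exact (hasLines_of_tf1 hM).stalk_injective hGY hη hηY
          (by rw [← QCoh.stalkLin_comp, kernel.condition, stalkLin_zero])
      obtain ⟨g, hg⟩ := exists_stalk_of_exact hS.exact η hp0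
      exact hlift η v g ((congrArg (stalkLin πZ η) hg).trans hm)
    · refine hlift η v 0 ?_
      rw [map_zero, map_zero]
      by_cases hηZ : η ∈ Z
      · have hm0 : m = 0 := (hasLines_of_tf1 hM').stalk_injective hGV hη ((hVg η hη).2 ⟨hηZ, hηY⟩) (by
          rw [← hq, QCoh.stalkLin_comp, hm, ← QCoh.stalkLin_comp, kernel.condition, stalkLin_zero])
        rw [← hm, hm0, map_zero]
      · exact (stalk_eq_zero_of_notMem hGZ hηZ _).symm
  have h1 := Euler.euler_additive k (S := ShortComplex.mk (kernel.ι q) q (kernel.condition q))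
    { exact := ShortComplex.exact_kernel q } hQ hGZ.2.1 hGV.2.1
  have h2 := DecSh20.euler_cokernel k (Abelian.image.ι a) hA hQ
  simp only at h1
  rw [← Euler.euler_of_iso k e] at h2
  refine ⟨by linarith [euler_nonneg_of_generic k hd hC hgen], fun hfull => ?_⟩
  have hK := isQuotOn_kernel k hM hM' hGY hS hVu fun η hη =>
    ⟨fun h => ((hVg η hη).1 h).2, fun h => (hVg η hη).2 ⟨hfull η hη h, h⟩⟩
  obtain ⟨eK, heK⟩ := exists_iso_quot k (hasLines_of_tf1 hM') hK hGV fun η _ => Iff.rfl
  have hz : IsZero (cokernel (Abelian.image.ι a)) := by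
    rw [IsZero.iff_id_eq_zero, ← cancel_epi (cokernel.π (Abelian.image.ι a)), Category.comp_id, comp_zero]
    refine (OX.eq_zero_iff _).2 fun x => ModuleCat.hom_ext (LinearMap.ext fun v => ?_)
    obtain ⟨m, hm⟩ := QCoh.stalkLin_surjective πZ x (stalkLin (kernel.ι q) x v)
    have hpV : stalkLin πV x m = 0 := by
      rw [← hq, QCoh.stalkLin_comp, hm, ← QCoh.stalkLin_comp, kernel.condition, stalkLin_zero]
    have hp0 : stalkLin p x m = 0 := by
      apply QCoh.stalkLin_injective eK.hom x
      rw [map_zero, ← QCoh.stalkLin_comp, heK, hpV]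
    obtain ⟨g, hg⟩ := exists_stalk_of_exact hS.exact x hp0
    exact hlift x v g ((congrArg (stalkLin πZ x) hg).trans hm)
  rw [DecSh20.euler_zero k hz] at h2
  linarith

end GrothLib.TFSimple15
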