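import Groth.Agent.Lib.TFSimple15.AlgClosed
import Groth.Agent.Lib.TFCurve11.Basic
import Groth.Agent.Lib.SubCurve16.Stalk
import Groth.Agent.Lib.ASBun21.HomFinite
import Groth.Agent.Lib.ASBun21.Isotypical
import Groth.Agent.Lib.QCoh.SupportExact
import Groth.Agent.Lib.QCoh.DevissageSummands
import Groth.Prelude.Def_TFOne
import Mathlib.CategoryTheory.Idempotents.Basic
import Mathlib.CategoryTheory.Abelian.Basic

/-!
A torsion-free rank one sheaf on a curve with geometrically integral components is simple if and only if it is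
not decomposable along two subcurves.
-/

set_option autoImplicit false
set_option linter.style.haveILetI false
set_option backward.isDefEq.respectTransparency false

universe u

open CategoryTheory CategoryTheory.Limits AlgebraicGeometry TopologicalSpace Opposite
open GrothLib.QCoh (stalkLin)

noncomputable section

namespace GrothLib.TFSimple15

variable {k : Type u} [Field k] {X : Scheme.{u}} [X.Over (Spec (CommRingCat.of k))]

/-- The constants in a stalk. -/
abbrev cstAt (k : Type u) [Field k] {X : Scheme.{u}} [X.Over (Spec (CommRingCat.of k))] (x : X) :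
    k →+* X.presheaf.stalk x :=
  (X.presheaf.germ ⊤ x trivial).hom.comp (Coh.toGlobal (X ↘ Spec (CommRingCat.of k)))

theorem stalkLin_smul {M N : X.Modules} (a : k) (f : M ⟶ N) (x : X) (v : M.presheaf.stalk x) :
    stalkLin (a • f) x v = cstAt k x a • stalkLin f x v := by
  obtain ⟨U, hU, m, rfl⟩ := TopCat.Presheaf.exists_germ_eq M.presheaf v
  rw [QCoh.stalkLin_germ, QCoh.stalkLin_germ, KLin.smul_app_apply, WeakAss.germ_smul,
    TopCat.Presheaf.germ_res_apply]
  rfl

theorem stalkLin_zero {M N : X.Modules} (x : X) (v : M.presheaf.stalk x) : stalkLin (0 : M ⟶ N) x v = 0 := by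
  obtain ⟨U, hU, m, rfl⟩ := TopCat.Presheaf.exists_germ_eq M.presheaf v
  rw [QCoh.stalkLin_germ]
  exact map_zero _

/-- The base field is algebraically closed in the local ring at the generic point of a geometrically integral
component. -/
theorem mem_range_cstAt [IsReduced X] [NoetherianSpace X] [IsLocallyNoetherian X]
    (hgi : ∀ (C : Set X) (hC : C ∈ irreducibleComponents (X : Type u)),
      GeometricallyIntegral (VecSt.subschι X C (isClosed_of_mem_irreducibleComponents C hC) ≫
        (X ↘ Spec (CommRingCat.of k))))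
    {η : X} (hη : η ∈ genericPoints (X : Type u)) {P : Polynomial k} (hP : P.Monic)
    {a : X.presheaf.stalk η} (ha : P.eval₂ (cstAt k η) a = 0) : ∃ c : k, cstAt k η c = a := by
  let C : Set X := closure {η}
  have hC : C ∈ irreducibleComponents (X : Type u) := hη
  have hC' : IsClosed C := isClosed_of_mem_irreducibleComponents C hC
  haveI := hgi C hC
  let q := X ↘ Spec (CommRingCat.of k)
  let ι := VecSt.subschι X C hC'
  have hfin : (irreducibleComponents (X : Type u) \ {C}).Finite :=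
    NoetherianSpace.finite_irreducibleComponents.subset Set.diff_subset
  let W : X.Opens := ⟨(⋃₀ (irreducibleComponents (X : Type u) \ {C}))ᶜ,
    (by
      rw [Set.sUnion_eq_biUnion]
      exact hfin.isClosed_biUnion fun D hD => isClosed_of_mem_irreducibleComponents D hD.1 : IsClosed _).isOpen_compl⟩
  have hηW : η ∈ W := by
    rintro ⟨D, ⟨hD, hne⟩, hηD⟩
    have hsub : C ⊆ D := (isClosed_of_mem_irreducibleComponents D hD).closure_subset_iff.2
      (Set.singleton_subset_iff.2 hηD)
    exact hne (le_antisymm (hC.2 hD.1 hsub) hsub)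
  obtain ⟨U, hU, hηU, hUW⟩ := exists_isAffineOpen_mem_and_subset hηW
  have hUC : ∀ x ∈ U, x ∈ C := by
    intro x hx
    by_contra hxC
    exact hUW hx ⟨irreducibleComponent x, ⟨irreducibleComponent_mem_irreducibleComponents x,
      fun h => hxC (h ▸ mem_irreducibleComponent)⟩, mem_irreducibleComponent⟩
  haveI : Surjective (ι ∣_ U) := ⟨fun x => by
    have hx : x.1 ∈ Set.range ι := by
      rw [show Set.range ι = C from Scheme.IdealSheafData.range_subschemeι _]
      exact hUC x.1 x.2
    obtain ⟨y, hy⟩ := hx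
    refine ⟨⟨y, show ι y ∈ U from hy ▸ x.2⟩, Subtype.ext ?_⟩
    exact (morphismRestrict_base_coe ι U _).trans hy⟩
  haveI : IsReduced (U : Scheme.{u}) := isReduced_of_isOpenImmersion U.ι
  haveI : IsIso (ι ∣_ U) := isIso_of_isClosedImmersion_of_surjective _
  let a' : Spec Γ(X, U) ⟶ VecSt.subsch X C hC' := hU.isoSpec.inv ≫ inv (ι ∣_ U) ≫ (ι ⁻¹ᵁ U).ι
  have ha' : a' ≫ ι = hU.fromSpec := by
    simp only [a', Category.assoc]
    rw [← morphismRestrict_ι, IsIso.inv_hom_id_assoc, IsAffineOpen.isoSpec_inv_ι]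
  haveI : Nonempty (U : Scheme.{u}) := ⟨⟨η, hηU⟩⟩
  haveI : Nonempty (Spec Γ(X, U)) := ⟨hU.isoSpec.hom ⟨η, hηU⟩⟩
  haveI : IsIntegral (VecSt.subsch X C hC') := by
    haveI : Subsingleton ↥(Spec (CommRingCat.of k)) := inferInstanceAs (Subsingleton (PrimeSpectrum k))
    exact GeometricallyIntegral.isIntegral_of_subsingleton (ι ≫ q)
  haveI : IsIntegral (Spec Γ(X, U)) := isIntegral_of_isOpenImmersion a'
  haveI : IsDomain Γ(X, U) :=
    (Scheme.ΓSpecIso Γ(X, U)).commRingCatIsoToRingEquiv.toMulEquiv.isDomain_iff.1 inferInstance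
  let α : k →+* Γ(X, U) := (X.presheaf.map (homOfLE le_top).op).hom.comp (Coh.toGlobal q)
  letI : Algebra k Γ(X, U) := α.toAlgebra
  have hα : a' ≫ ι ≫ q = Spec.map (CommRingCat.ofHom (algebraMap k Γ(X, U))) := by
    rw [reassoc_of% ha']
    have h := IsAffineOpen.SpecMap_appLE_fromSpec q (isAffineOpen_top (Spec (CommRingCat.of k))) hU le_top
    rw [IsAffineOpen.fromSpec_top] at h
    rw [← h]
    show Spec.map (q.appLE ⊤ U le_top) ≫ (Spec (CommRingCat.of k)).isoSpec.inv = _
    rw [Scheme.isoSpec_Spec_inv, ← Spec.map_comp]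
    rfl
  letI : Algebra Γ(X, U) (X.presheaf.stalk η) := (X.presheaf.germ U η hηU).hom.toAlgebra
  letI : Algebra k (X.presheaf.stalk η) := (cstAt k η).toAlgebra
  haveI : IsScalarTower k Γ(X, U) (X.presheaf.stalk η) := IsScalarTower.of_algebraMap_eq fun r =>
    (TopCat.Presheaf.germ_res_apply X.presheaf (homOfLE le_top) η hηU (Coh.toGlobal q r)).symm
  letI := (GrothLib.SubCurve16.isField_stalk hη).toField
  haveI : IsLocalization.AtPrime (X.presheaf.stalk η) (hU.primeIdealOf ⟨η, hηU⟩).asIdeal :=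
    hU.isLocalization_stalk ⟨η, hηU⟩
  obtain ⟨c, hc⟩ := mem_range_of_geometricallyIntegral (ι ≫ q) a' hα (hU.primeIdealOf ⟨η, hηU⟩).asIdeal
    (c := a) ⟨P, hP, ha⟩
  exact ⟨c, hc⟩

variable [IsProper (X ↘ Spec (CommRingCat.of k))] [IsReduced X]

/-- Endomorphisms act on the generic stalks by scalars. -/
theorem exists_scalar
    (hgi : ∀ (C : Set X) (hC : C ∈ irreducibleComponents (X : Type u)),
      GeometricallyIntegral (VecSt.subschι X C (isClosed_of_mem_irreducibleComponents C hC) ≫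
        (X ↘ Spec (CommRingCat.of k))))
    {F : X.Modules} (hF : TFOne.IsTF1 X F) {η : X} (hη : η ∈ genericPoints (X : Type u)) (φ : F ⟶ F) :
    ∃ c : k, ∀ v, stalkLin φ η v = cstAt k η c • v := by
  haveI := Euler.isNoetherian_of_proper (X := X) k
  haveI : Module.Finite k (F ⟶ F) := ASBun21.finite_hom k hF.1 hF.1
  haveI : Module.Finite k (End F) := inferInstanceAs (Module.Finite k (F ⟶ F))
  obtain ⟨e⟩ := hF.2.2 η hη
  let val : (F ⟶ F) → X.presheaf.stalk η := fun f => e (stalkLin f η (e.symm 1))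
  have hval : ∀ (f : F ⟶ F) v, stalkLin f η v = val f • v := by
    intro f v
    apply e.injective
    conv_lhs => rw [← e.symm_apply_apply v, ← mul_one (e v), ← smul_eq_mul, map_smul, map_smul, map_smul]
    rw [map_smul, smul_eq_mul, smul_eq_mul, mul_comm]
  letI : Algebra k (X.presheaf.stalk η) := (cstAt k η).toAlgebra
  let ψ : End F →ₐ[k] X.presheaf.stalk η :=
    { toFun := fun f => val f
      map_one' := by
        show e (stalkLin (𝟙 F) η (e.symm 1)) = 1
        rw [QCoh.stalkLin_id, LinearEquiv.apply_symm_apply]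
      map_mul' := fun f g => by
        show e (stalkLin (g ≫ f) η (e.symm 1)) = val f * val g
        rw [QCoh.stalkLin_comp, hval f, map_smul, smul_eq_mul]
      map_zero' := by
        show e (stalkLin (0 : F ⟶ F) η (e.symm 1)) = 0
        rw [stalkLin_zero, map_zero]
      map_add' := fun f g => by
        show e (stalkLin (f + g : F ⟶ F) η (e.symm 1)) = val f + val g
        rw [QCoh.stalkLin_add, map_add]
      commutes' := fun r => by
        show e (stalkLin (r • 𝟙 F) η (e.symm 1)) = cstAt k η r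
        rw [stalkLin_smul, QCoh.stalkLin_id, map_smul, LinearEquiv.apply_symm_apply, smul_eq_mul, mul_one] }
  obtain ⟨P, hP, hPφ⟩ := (Algebra.IsIntegral.isIntegral (R := k) (A := End F) φ)
  have h0 : P.eval₂ (cstAt k η) (val φ) = 0 := by
    have := congrArg ψ hPφ
    rw [map_zero, ← Polynomial.aeval_def, ← Polynomial.aeval_algHom_apply] at this
    exact this
  obtain ⟨c, hc⟩ := mem_range_cstAt hgi hη hP h0
  exact ⟨c, fun v => by rw [hval φ v, hc]⟩

omit [IsProper (X ↘ Spec (CommRingCat.of k))] [IsReduced X] in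
theorem mem_genericPoints_of_maximal {w : X} (hw : ∀ z, z ⤳ w → z = w) : w ∈ genericPoints (X : Type u) :=
  GrothLib.FinAff13.mem_genericPoints_iff.2 hw

/-- Endomorphisms are determined by the generic stalks. -/
theorem hom_ext_generic (k : Type u) [Field k] [X.Over (Spec (CommRingCat.of k))]
    [IsProper (X ↘ Spec (CommRingCat.of k))] {M N : X.Modules} (hN : TorSh.IsTorsionFree N) [N.IsQuasicoherent] (f g : M ⟶ N)
    (h : ∀ η ∈ genericPoints (X : Type u), ∀ v, stalkLin f η v = stalkLin g η v) : f = g := by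
  haveI := Euler.isNoetherian_of_proper (X := X) k
  refine Scheme.Modules.hom_ext _ _ fun U => AddCommGrpCat.ext fun m => ?_
  refine sub_eq_zero.1 (TFCurve11.eq_zero_of_maximal_germ hN _ fun w hw hmax => ?_)
  rw [map_sub, sub_eq_zero, ← QCoh.stalkLin_germ, ← QCoh.stalkLin_germ]
  exact h w (mem_genericPoints_of_maximal hmax) _

/-- An endomorphism which is not scalar gives an idempotent which is neither `0` nor `1`. -/
theorem exists_idempotent
    (hgi : ∀ (C : Set X) (hC : C ∈ irreducibleComponents (X : Type u)),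
      GeometricallyIntegral (VecSt.subschι X C (isClosed_of_mem_irreducibleComponents C hC) ≫
        (X ↘ Spec (CommRingCat.of k))))
    {F : X.Modules} (hF : TFOne.IsTF1 X F) (φ : F ⟶ F) (hne : ∀ c : k, φ ≠ c • 𝟙 F) :
    ∃ (e : F ⟶ F) (η₁ η₂ : X), η₁ ∈ genericPoints (X : Type u) ∧ η₂ ∈ genericPoints (X : Type u) ∧ e ≫ e = e ∧
      (∀ η ∈ genericPoints (X : Type u), (∀ v, stalkLin e η v = v) ∨ ∀ v, stalkLin e η v = 0) ∧
      (∀ v, stalkLin e η₁ v = v) ∧ (∀ v, stalkLin e η₂ v = 0) := by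
  classical
  haveI := hF.1.1
  haveI := Euler.isNoetherian_of_proper (X := X) k
  haveI : Fintype (genericPoints (X : Type u)) :=
    (genericPoints.finite NoetherianSpace.finite_irreducibleComponents).fintype
  choose χ hχ using fun η : genericPoints (X : Type u) => exists_scalar hgi hF η.2 φ
  obtain ⟨η₁, η₂, h12⟩ : ∃ η₁ η₂, χ η₁ ≠ χ η₂ := by
    by_contra! h
    by_cases hG : Nonempty (genericPoints (X : Type u))
    · obtain ⟨η₀⟩ := hG
      refine hne (χ η₀) (hom_ext_generic k hF.2.1 _ _ fun η hη v => ?_)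
      rw [hχ ⟨η, hη⟩, stalkLin_smul, QCoh.stalkLin_id, h ⟨η, hη⟩ η₀]
    · refine hne 0 (hom_ext_generic k hF.2.1 _ _ fun η hη v => ?_)
      exact absurd ⟨⟨η, hη⟩⟩ hG
  let T : Finset k := (Finset.univ.image χ).erase (χ η₁)
  obtain ⟨e, he⟩ : ∃ e : F ⟶ F, ∀ η : genericPoints (X : Type u), ∀ v, stalkLin e η.1 v =
      cstAt k η.1 (∏ t ∈ T, (χ η - t) * (χ η₁ - t)⁻¹) • v := by
    induction T using Finset.induction_on with
    | empty => exact ⟨𝟙 F, fun η v => by rw [QCoh.stalkLin_id, Finset.prod_empty, map_one, one_smul]⟩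
    | insert t s ht ih =>
      obtain ⟨e, he⟩ := ih
      refine ⟨e ≫ ((χ η₁ - t)⁻¹ • (φ + (-t) • 𝟙 F)), fun η v => ?_⟩
      rw [QCoh.stalkLin_comp, he, stalkLin_smul, QCoh.stalkLin_add, hχ, stalkLin_smul, QCoh.stalkLin_id,
        ← add_smul, ← map_add, smul_smul, smul_smul, ← map_mul, ← map_mul, Finset.prod_insert ht]
      congr 2
      ring
  have h01 : ∀ η, (∏ t ∈ T, (χ η - t) * (χ η₁ - t)⁻¹) = if χ η = χ η₁ then 1 else 0 := by
    intro η
    split_ifs with h
    · refine Finset.prod_eq_one fun t ht => ?_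
      rw [h, mul_inv_cancel₀]
      exact sub_ne_zero.2 (Ne.symm (Finset.mem_erase.1 ht).1)
    · refine Finset.prod_eq_zero (i := χ η) (Finset.mem_erase.2 ⟨h, Finset.mem_image_of_mem _ (Finset.mem_univ η)⟩) ?_
      rw [sub_self, zero_mul]
  have hcase : ∀ η ∈ genericPoints (X : Type u), (∀ v, stalkLin e η v = v) ∨ ∀ v, stalkLin e η v = 0 := by
    intro η hη
    by_cases h : χ ⟨η, hη⟩ = χ η₁
    · exact Or.inl fun v => by rw [he ⟨η, hη⟩, h01, if_pos h, map_one, one_smul]
    · exact Or.inr fun v => by rw [he ⟨η, hη⟩, h01, if_neg h, map_zero, zero_smul]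
  refine ⟨e, η₁.1, η₂.1, η₁.2, η₂.2, hom_ext_generic k hF.2.1 _ _ fun η hη v => ?_, hcase,
    fun v => by rw [he η₁, h01, if_pos rfl, map_one, one_smul],
    fun v => by rw [he η₂, h01, if_neg (Ne.symm h12), map_zero, zero_smul]⟩
  rw [QCoh.stalkLin_comp]
  rcases hcase η hη with h | h
  · rw [h, h]
  · simp only [h, map_zero]

/-- A direct summand is the quotient on the union of the components where it is non-zero. -/
theorem isQuotOn_summand (k : Type u) [Field k] [X.Over (Spec (CommRingCat.of k))]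
    [IsProper (X ↘ Spec (CommRingCat.of k))] {F G : X.Modules} (hF : TFOne.IsTF1 X F) (i : G ⟶ F) (p : F ⟶ G) (hip : i ≫ p = 𝟙 G)
    {η₁ η₂ : X} (h₁ : η₁ ∈ genericPoints (X : Type u)) (h₂ : η₂ ∈ genericPoints (X : Type u))
    (hcase : ∀ η ∈ genericPoints (X : Type u),
      (∀ v, stalkLin (p ≫ i) η v = v) ∨ ∀ v, stalkLin (p ≫ i) η v = 0)
    (h1 : ∀ v, stalkLin (p ≫ i) η₁ v = v) (h2 : ∀ v, stalkLin (p ≫ i) η₂ v = 0) :
    ∃ (Y : Set X), IsClosed Y ∧ VecSt.IsSubcurve X Y ∧ Y ≠ Set.univ ∧ TFOne.IsQuotOn X F Y G p := by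
  haveI := Euler.isNoetherian_of_proper (X := X) k
  haveI : Mono i := mono_of_mono_fac hip
  have hG : Coh.IsCoh G := ASBun21.isCoh_of_retract i p hip hF.1
  haveI := hG.1
  haveI := hF.1.1
  have htf : TorSh.IsTorsionFree G := fun x =>
    haveI := hF.2.1 x
    (QCoh.stalkLin_injective i x).moduleIsTorsionFree _ fun r v => map_smul _ r v
  let S : Set X := {η | η ∈ genericPoints (X : Type u) ∧ ∀ v, stalkLin (p ≫ i) η v = v}
  let Y : Set X := ⋃₀ ((fun η => closure ({η} : Set X)) '' S)
  have hSfin : S.Finite :=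
    (genericPoints.finite NoetherianSpace.finite_irreducibleComponents).subset fun η h => h.1
  have hYc : IsClosed Y := by
    rw [show Y = ⋃ η ∈ S, closure ({η} : Set X) from Set.sUnion_image _ _]
    exact hSfin.isClosed_biUnion fun η _ => isClosed_closure
  have hnt : ∀ η ∈ S, Nontrivial (G.presheaf.stalk η) := by
    intro η hη
    obtain ⟨e⟩ := hF.2.2 η hη.1
    refine ⟨⟨stalkLin p η (e.symm 1), 0, fun h => ?_⟩⟩
    have h' := hη.2 (e.symm 1)
    rw [QCoh.stalkLin_comp, h, map_zero] at h'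
    exact one_ne_zero (e.symm.map_eq_zero_iff.1 h'.symm)
  refine ⟨Y, hYc, ⟨_, ?_, ⟨_, Set.mem_image_of_mem _ (show η₁ ∈ S from ⟨h₁, h1⟩)⟩, rfl⟩, ?_, epi_of_epi_fac hip, hG, htf, ?_⟩
  · rintro _ ⟨η, hη, rfl⟩
    exact hη.1
  · intro hu
    obtain ⟨_, ⟨η, hη, rfl⟩, hmem⟩ : η₂ ∈ Y := hu ▸ Set.mem_univ η₂
    have hs : η ⤳ η₂ := specializes_iff_mem_closure.2 hmem
    have := GrothLib.FinAff13.mem_genericPoints_iff.1 h₂ η hs
    subst this
    obtain ⟨e⟩ := hF.2.2 η hη.1
    exact one_ne_zero (e.symm.map_eq_zero_iff.1 ((hη.2 (e.symm 1)).symm.trans (h2 (e.symm 1))))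
  · ext x
    constructor
    · intro hx
      by_contra hxY
      obtain ⟨v, w, hvw⟩ := (not_subsingleton_iff_nontrivial.1 hx).exists_pair_ne
      apply hvw
      suffices H : ∀ v : G.presheaf.stalk x, v = 0 by rw [H v, H w]
      intro v
      obtain ⟨W, hW, s, rfl⟩ := TopCat.Presheaf.exists_germ_eq G.presheaf v
      let W' : X.Opens := W ⊓ ⟨Yᶜ, hYc.isOpen_compl⟩
      have hxW' : x ∈ W' := ⟨hW, hxY⟩
      let s' : Γ(G, W') := G.presheaf.map (homOfLE (inf_le_left : W' ≤ W)).op s
      have hs' : s' = 0 := TFCurve11.eq_zero_of_maximal_germ htf _ fun w hw hmax => by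
        have hwG := mem_genericPoints_of_maximal hmax
        apply QCoh.stalkLin_injective i w
        rcases hcase w hwG with h | h
        · exact absurd ⟨closure {w}, ⟨w, ⟨hwG, h⟩, rfl⟩, subset_closure rfl⟩ hw.2
        · rw [map_zero, ← h (stalkLin i w (G.presheaf.germ W' w hw s')), QCoh.stalkLin_comp, ← QCoh.stalkLin_comp i p,
            hip, QCoh.stalkLin_id]
      rw [← TopCat.Presheaf.germ_res_apply G.presheaf (homOfLE (inf_le_left : W' ≤ W)) x hxW' s]
      show G.presheaf.germ W' x hxW' s' = 0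
      rw [hs', map_zero]
    · rintro ⟨_, ⟨η, hη, rfl⟩, hmem⟩
      exact closure_minimal (Set.singleton_subset_iff.2 (show η ∈ CohB1.support G from not_subsingleton_iff_nontrivial.2 (hnt η hη))) (QCoh.isClosed_support_of_isCoh hG) hmem

/-- Simple means indecomposable. -/
theorem main [Nonempty X]
    (hgi : ∀ (C : Set X) (hC : C ∈ irreducibleComponents (X : Type u)),
      GeometricallyIntegral (VecSt.subschι X C (isClosed_of_mem_irreducibleComponents C hC) ≫
        (X ↘ Spec (CommRingCat.of k))))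
    (I : X.Modules) (hI : TFOne.IsTF1 X I) :
    TFOne.IsSimple X k (X ↘ Spec (CommRingCat.of k)) I ↔
      ¬ ∃ (Y Z : Set X) (hY : IsClosed Y) (hZ : IsClosed Z) (GY GZ : X.Modules) (πY : I ⟶ GY) (πZ : I ⟶ GZ),
        VecSt.IsSubcurve X Y ∧ VecSt.IsSubcurve X Z ∧ Y ≠ Set.univ ∧ Z ≠ Set.univ ∧
        TFOne.IsQuotOn X I Y GY πY ∧ TFOne.IsQuotOn X I Z GZ πZ ∧ IsIso (biprod.lift πY πZ) := by
  haveI := Euler.isNoetherian_of_proper (X := X) k
  constructor
  · rintro ⟨-, hs⟩ ⟨Y, Z, hY, hZ, GY, GZ, πY, πZ, hYs, hZs, -, -, hQY, hQZ, hiso⟩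
    obtain ⟨c, hc⟩ := hs (πY ≫ biprod.inl ≫ inv (biprod.lift πY πZ))
    rw [← KLin.smul_id] at hc
    have hA : (πY ≫ biprod.inl ≫ inv (biprod.lift πY πZ)) ≫ πY = πY := by
      have : inv (biprod.lift πY πZ) ≫ πY = biprod.fst := by rw [IsIso.inv_comp_eq, biprod.lift_fst]
      rw [Category.assoc, Category.assoc, this, biprod.inl_fst, Category.comp_id]
    have hB : (πY ≫ biprod.inl ≫ inv (biprod.lift πY πZ)) ≫ πZ = 0 := by
      have : inv (biprod.lift πY πZ) ≫ πZ = biprod.snd := by rw [IsIso.inv_comp_eq, biprod.lift_snd]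
      rw [Category.assoc, Category.assoc, this, biprod.inl_snd, comp_zero]
    rw [hc, Linear.smul_comp, Category.id_comp] at hA hB
    have hsupp : ∀ {W : Set X} {G : X.Modules} {π : I ⟶ G}, VecSt.IsSubcurve X W → TFOne.IsQuotOn X I W G π →
        π ≠ 0 := by
      rintro W G π ⟨𝒮, h𝒮, ⟨D, hD⟩, rfl⟩ ⟨hepi, -, -, hsupp⟩ h0
      obtain ⟨x, hx⟩ := (h𝒮 hD).1.nonempty
      have hx' : x ∈ CohB1.support G := hsupp ▸ ⟨D, hD, hx⟩
      obtain ⟨v, w, hvw⟩ := (not_subsingleton_iff_nontrivial.1 hx').exists_pair_ne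
      apply hvw
      suffices H : ∀ v : G.presheaf.stalk x, v = 0 by rw [H v, H w]
      intro v
      obtain ⟨u, rfl⟩ := QCoh.stalkLin_surjective π x v
      rw [h0, stalkLin_zero]
    by_cases hc0 : c = 0
    · rw [hc0, zero_smul] at hA
      exact hsupp hYs hQY hA.symm
    · exact hsupp hZs hQZ ((smul_eq_zero.1 hB).resolve_left hc0)
  · intro hno
    refine ⟨fun hz => ?_, fun φ => by_contra fun hφ => hno ?_⟩
    · obtain ⟨η, hη⟩ : ∃ η, η ∈ genericPoints (X : Type u) := by
        by_contra! h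
        have : closure (genericPoints (X : Type u)) = Set.univ := genericPoints.closure
        rw [Set.eq_empty_iff_forall_notMem.2 h, closure_empty] at this
        exact Set.empty_ne_univ this
      obtain ⟨e⟩ := hI.2.2 η hη
      have h1 : stalkLin (𝟙 I) η (e.symm 1) = stalkLin (0 : I ⟶ I) η (e.symm 1) := by rw [hz.eq_of_src (𝟙 I) 0]
      rw [QCoh.stalkLin_id, stalkLin_zero] at h1
      exact one_ne_zero (e.symm.map_eq_zero_iff.1 h1)
    · push Not at hφ
      obtain ⟨e, η₁, η₂, h₁, h₂, hee, hcase, h1, h2⟩ :=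
        exists_idempotent hgi hI φ (fun c hc => hφ c (hc.trans (KLin.smul_id I c)))
      obtain ⟨G, i, p, hip, hpi⟩ := IsIdempotentComplete.idempotents_split I e hee
      have hee' : (𝟙 I - e) ≫ (𝟙 I - e) = 𝟙 I - e := by
        simp [Preadditive.sub_comp, Preadditive.comp_sub, hee]
      obtain ⟨G', i', p', hip', hpi'⟩ := IsIdempotentComplete.idempotents_split I (𝟙 I - e) hee'
      have hsum : p ≫ i + p' ≫ i' = 𝟙 I := by rw [hpi, hpi', add_sub_cancel]
      have hstalk : ∀ η v, stalkLin (p' ≫ i') η v = v - stalkLin e η v := by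
        intro η v
        have h := congrArg (fun f => stalkLin f η v) hsum
        simp only [QCoh.stalkLin_add, QCoh.stalkLin_id] at h
        rw [← hpi]
        exact eq_sub_of_add_eq' h
      obtain ⟨Y, hY, hYs, hYne, hYQ⟩ := isQuotOn_summand k hI i p hip h₁ h₂
        (fun η hη => by rw [hpi]; exact hcase η hη) (fun v => by rw [hpi]; exact h1 v)
        (fun v => by rw [hpi]; exact h2 v)
      obtain ⟨Z, hZ, hZs, hZne, hZQ⟩ := isQuotOn_summand k hI i' p' hip' h₂ h₁
        (fun η hη => (hcase η hη).symm.imp (fun h v => by rw [hstalk, h, sub_zero])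
          (fun h v => by rw [hstalk, h, sub_self]))
        (fun v => by rw [hstalk, h2, sub_zero]) (fun v => by rw [hstalk, h1, sub_self])
      have hz1 : i ≫ p' = 0 := by
        haveI : Epi p := epi_of_epi_fac hip
        haveI : Mono i' := mono_of_mono_fac hip'
        rw [← cancel_epi p, ← cancel_mono i', comp_zero, zero_comp, Category.assoc, Category.assoc, hpi',
          ← Category.assoc, hpi, Preadditive.comp_sub, Category.comp_id, hee, sub_self]
      have hz2 : i' ≫ p = 0 := by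
        haveI : Epi p' := epi_of_epi_fac hip'
        haveI : Mono i := mono_of_mono_fac hip
        rw [← cancel_epi p', ← cancel_mono i, comp_zero, zero_comp, Category.assoc, Category.assoc, hpi,
          ← Category.assoc, hpi', Preadditive.sub_comp, Category.id_comp, hee, sub_self]
      refine ⟨Y, Z, hY, hZ, G, G', p, p', hYs, hZs, hYne, hZne, hYQ, hZQ, ⟨biprod.desc i i', ?_, ?_⟩⟩
      · rw [biprod.lift_desc, hsum]
      · refine biprod.hom_ext' _ _ (biprod.hom_ext _ _ ?_ ?_) (biprod.hom_ext _ _ ?_ ?_) <;>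
          simp [hip, hip', hz1, hz2]

end GrothLib.TFSimple15
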