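import Groth.Agent.Lib.QuotTan26.Stalk
import Mathlib.LinearAlgebra.TensorProduct.Quotient

/-!
Stalks of the restriction of a module to a closed subscheme: the restriction map is onto and its kernel is the ideal
times the stalk.
-/

set_option autoImplicit false
set_option backward.isDefEq.respectTransparency false

universe u

noncomputable section

open CategoryTheory CategoryTheory.Limits AlgebraicGeometry Opposite TopologicalSpace IsLocalRing
open GrothLib.QCoh (stalkLin stalkLin_comp stalkLin_germ stalkLin_injective)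
open GrothLib.QuotTan26
open scoped TensorProduct

namespace GrothLib.TFSimple15

theorem uS_eq_zero {X Y : Scheme.{u}} (f : X ⟶ Y) (M : Y.Modules) (z : X)
    (hs : Function.Surjective (f.stalkMap z).hom) (m : M.presheaf.stalk (f z)) (h : uS f M z m = 0) :
    m ∈ RingHom.ker (f.stalkMap z).hom • (⊤ : Submodule (Y.presheaf.stalk (f z)) (M.presheaf.stalk (f z))) := by
  obtain ⟨e, he, heq⟩ := exists_bijective_uS f M z
  letI := (f.stalkMap z).hom.toAlgebra
  let R := Y.presheaf.stalk (f z)
  let I : Ideal R := RingHom.ker (f.stalkMap z).hom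
  let q : (R ⧸ I) ≃ₗ[R] X.presheaf.stalk z :=
    LinearEquiv.ofBijective
      { toFun := Ideal.Quotient.lift I (f.stalkMap z).hom fun a ha => ha
        map_add' := fun a b => map_add _ a b
        map_smul' := fun r a => by
          obtain ⟨a, rfl⟩ := Ideal.Quotient.mk_surjective a
          rw [RingHom.id_apply, Algebra.smul_def r (Ideal.Quotient.mk I a),
            show (algebraMap R (R ⧸ I)) r = Ideal.Quotient.mk I r from rfl, ← map_mul, Ideal.Quotient.lift_mk,
            Ideal.Quotient.lift_mk, map_mul, Algebra.smul_def, RingHom.algebraMap_toAlgebra] }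
      ⟨RingHom.lift_injective_of_ker_le_ideal I (fun a ha => ha) le_rfl, fun b => by
        obtain ⟨a, rfl⟩ := hs b
        exact ⟨Ideal.Quotient.mk I a, rfl⟩⟩
  have h1 : ((1 : X.presheaf.stalk z) ⊗ₜ[R] m) = 0 := he.1 ((heq m).trans (h.trans (map_zero e).symm))
  have h2 := congrArg (fun w => TensorProduct.quotTensorEquivQuotSMul (M.presheaf.stalk (f z)) I
    (q.symm.toLinearMap.rTensor (M.presheaf.stalk (f z)) w)) h1
  simp only [LinearMap.rTensor_tmul, map_zero] at h2
  have hq1 : q.symm.toLinearMap 1 = Ideal.Quotient.mk I 1 :=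
    q.symm_apply_eq.2 (map_one (f.stalkMap z).hom).symm
  rw [hq1, TensorProduct.quotTensorEquivQuotSMul_mk_tmul, one_smul, Submodule.Quotient.mk_eq_zero] at h2
  exact h2

variable {X Y : Scheme.{u}} (f : X ⟶ Y)

theorem uS_surjective [IsClosedImmersion f] (M : Y.Modules) (z : X) : Function.Surjective (uS f M z) := by
  intro v
  have hv : v ∈ Submodule.span (X.presheaf.stalk z) (Set.range (uS f M z)) := (span_range_uS f M z).ge trivial
  induction hv using Submodule.span_induction with
  | mem v hv => exact hv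
  | zero => exact ⟨0, map_zero _⟩
  | add a b _ _ ha hb =>
    obtain ⟨s, rfl⟩ := ha
    obtain ⟨t, rfl⟩ := hb
    exact ⟨s + t, map_add _ _ _⟩
  | smul c a _ ha =>
    obtain ⟨s, rfl⟩ := ha
    obtain ⟨c₀, rfl⟩ := f.stalkMap_surjective z c
    exact ⟨c₀ • s, uS_smul f M z c₀ s⟩

theorem stalkLin_adjunct_eq_zero_iff [IsClosedImmersion f] {M : Y.Modules} {N : X.Modules}
    (ψ : (Scheme.Modules.pullback f).obj M ⟶ N) (z : X) (t : M.presheaf.stalk (f z)) :
    stalkLin ((Scheme.Modules.pullbackPushforwardAdjunction f).homEquiv _ _ ψ) (f z) t = 0 ↔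
      stalkLin ψ z (uS f M z t) = 0 := by
  obtain ⟨U, hzU, m, rfl⟩ := TopCat.Presheaf.exists_germ_eq M.presheaf t
  rw [uS_germ, stalkLin_germ]
  erw [stalkLin_germ ψ]
  have happ : ∀ (V : Y.Opens) (m : Γ(M, V)),
      ((Scheme.Modules.pullbackPushforwardAdjunction f).homEquiv _ _ ψ).app V m =
        ψ.app (f ⁻¹ᵁ V) (OX.pullSec f M V m) := fun V m => by
    rw [Adjunction.homEquiv_unit]
    rfl
  rw [happ]
  constructor
  · intro h
    obtain ⟨V, hzV, i₁, i₂, e⟩ := TopCat.Presheaf.germ_eq
      ((Scheme.Modules.pushforward f).obj N).presheaf (f z) hzU hzU _ 0 (h.trans (map_zero _).symm)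
    rw [map_zero] at e
    refine (N.presheaf.germ_res_apply (homOfLE (f.preimage_mono i₁.le)) z hzV _).symm.trans ?_
    exact (congrArg _ e).trans (map_zero _)
  · intro h
    obtain ⟨W, hzW, i₁, i₂, e⟩ := TopCat.Presheaf.germ_eq N.presheaf z _ _ _ 0
      (h.trans (map_zero (N.presheaf.germ (f ⁻¹ᵁ U) z hzU).hom).symm)
    rw [map_zero] at e
    obtain ⟨V, hV, hVW⟩ := f.isClosedEmbedding.isInducing.isOpen_iff.1 W.2
    have hle : f ⁻¹ᵁ (U ⊓ ⟨V, hV⟩) ≤ W := fun w hw => by
      exact (Set.ext_iff.1 hVW w).1 hw.2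
    have hzV : f z ∈ V := by
      have h3 : z ∈ f ⁻¹' V := by rw [hVW]; exact hzW
      exact h3
    refine (((Scheme.Modules.pushforward f).obj N).presheaf.germ_res_apply
      (homOfLE (inf_le_left : U ⊓ ⟨V, hV⟩ ≤ U)) (f z) ⟨hzU, hzV⟩ _).symm.trans ?_
    refine (congrArg _ ?_).trans (map_zero _)
    refine Eq.trans ?_ ((congrArg (N.presheaf.map (homOfLE hle).op) e).trans (map_zero _))
    exact (ConcreteCategory.congr_hom (N.presheaf.map_comp i₁.op (homOfLE hle).op) _)

end GrothLib.TFSimple15
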