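import Groth.Agent.Lib.TFSimple15.Quot
import Groth.Agent.Lib.TFSimple15.PullStalk
import Groth.Agent.Lib.DeformIso.Basic
import Groth.Agent.Lib.ModDesc.Approx
import Mathlib.RingTheory.Flat.TorsionFree

/-!
The modification of a torsion-free rank one sheaf along a subcurve of the special fibre: its restriction to the
special fibre is an extension of the kernel of the quotient on the subcurve by the quotient.
-/

set_option autoImplicit false
set_option linter.style.haveILetI false
set_option backward.isDefEq.respectTransparency false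

universe u

open CategoryTheory CategoryTheory.Limits AlgebraicGeometry TopologicalSpace Opposite
open GrothLib.QCoh (stalkLin)
open GrothLib.QuotTan26 (uS)

noncomputable section

namespace GrothLib.TFSimple15

section Fibre

variable {R : Type u} [CommRing R] {X : Scheme.{u}} (f : X ⟶ Spec (CommRingCat.of R))

/-- The image of a scalar in a local ring. -/
abbrev tauAt (t : R) (y : X) : X.presheaf.stalk y :=
  X.presheaf.germ ⊤ y trivial (Coh.toGlobal f t)

theorem stalkLin_smulModΓ (M : X.Modules) (t : R) (y : X) (v : M.presheaf.stalk y) :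
    stalkLin (Formal.smulModΓ M (Coh.toGlobal f t)) y v = tauAt f t y • v := by
  obtain ⟨U, hU, m, rfl⟩ := TopCat.Presheaf.exists_germ_eq M.presheaf v
  rw [QCoh.stalkLin_germ, KLin.smulModΓ_app_apply, WeakAss.germ_smul, TopCat.Presheaf.germ_res_apply]

theorem tauAt_smul_injective [IsDomain R] {M : X.Modules} (hM : FlatMod.IsFlatOver f M) {t : R} (ht : t ≠ 0)
    (y : X) {a b : M.presheaf.stalk y} (h : tauAt f t y • a = tauAt f t y • b) : a = b := by
  letI := FlatMod.moduleStalkOver f M y
  haveI : Module.Flat ((Spec (CommRingCat.of R)).presheaf.stalk (f y)) (M.presheaf.stalk y) := hM y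
  let s : (Spec (CommRingCat.of R)).presheaf.stalk (f y) :=
    (Spec (CommRingCat.of R)).presheaf.germ ⊤ (f y) trivial ((Scheme.ΓSpecIso (CommRingCat.of R)).inv t)
  haveI : IsDomain ((Spec (CommRingCat.of R)).presheaf.stalk (f y)) := inferInstance
  have hs : s ≠ 0 := fun h0 => ht ((ConcreteCategory.bijective_of_isIso
    (Scheme.ΓSpecIso (CommRingCat.of R)).inv).1 ((germ_injective_of_isIntegral _ (f y) (U := ⊤) trivial
      (h0.trans (map_zero _).symm)).trans (map_zero _).symm))
  have hτ : (f.stalkMap y).hom s = tauAt f t y := Scheme.Hom.germ_stalkMap_apply f ⊤ y trivial _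
  refine Module.Flat.isSMulRegular_of_nonZeroDivisors (mem_nonZeroDivisors_of_ne_zero hs) ?_
  show (f.stalkMap y).hom s • a = (f.stalkMap y).hom s • b
  rw [hτ]; exact h

variable [IsDomain R] [IsDiscreteValuationRing R] {Xs : Scheme.{u}} {i : Xs ⟶ X}
  [Xs.Over (Spec (CommRingCat.of (IsLocalRing.ResidueField R)))]

theorem isClosedImmersion_special (hsq : IsPullback i (Xs ↘ Spec (CommRingCat.of (IsLocalRing.ResidueField R))) f
    (Spec.map (CommRingCat.ofHom (IsLocalRing.residue R)))) : IsClosedImmersion i := by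
  haveI : IsClosedImmersion (Spec.map (CommRingCat.ofHom (IsLocalRing.residue R))) :=
    IsClosedImmersion.spec_of_surjective _ IsLocalRing.residue_surjective
  exact MorphismProperty.of_isPullback hsq.flip inferInstance

theorem isProper_special (hsq : IsPullback i (Xs ↘ Spec (CommRingCat.of (IsLocalRing.ResidueField R))) f
    (Spec.map (CommRingCat.ofHom (IsLocalRing.residue R)))) [IsProper f] :
    IsProper (Xs ↘ Spec (CommRingCat.of (IsLocalRing.ResidueField R))) :=
  MorphismProperty.of_isPullback hsq inferInstance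

/-- The local equation of the special fibre. -/
theorem ker_stalkMap_special (hsq : IsPullback i (Xs ↘ Spec (CommRingCat.of (IsLocalRing.ResidueField R))) f
    (Spec.map (CommRingCat.ofHom (IsLocalRing.residue R)))) {t : R}
    (ht : IsLocalRing.maximalIdeal R = Ideal.span {t}) (z : Xs) :
    RingHom.ker (i.stalkMap z).hom = Ideal.span {tauAt f t (i z)} := by
  haveI : IsClosedImmersion (Spec.map (CommRingCat.ofHom (IsLocalRing.residue R))) :=
    IsClosedImmersion.spec_of_surjective _ IsLocalRing.residue_surjective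
  rw [DeformIso.ker_stalkMap_of_isPullback hsq z ⟨⊤, isAffineOpen_top _⟩ trivial, Ideal.map_map]
  have hk : (Spec.map (CommRingCat.ofHom (IsLocalRing.residue R))).ker.ideal ⟨⊤, isAffineOpen_top _⟩ =
      Ideal.span {(Scheme.ΓSpecIso (CommRingCat.of R)).inv t} := by
    ext r
    obtain ⟨ρ, rfl⟩ := (ConcreteCategory.bijective_of_isIso (Scheme.ΓSpecIso (CommRingCat.of R)).inv).2 r
    rw [Scheme.Hom.ker_apply, RingHom.mem_ker]
    have e := ConcreteCategory.congr_hom (Scheme.ΓSpecIso_inv_naturality
      (CommRingCat.ofHom (IsLocalRing.residue R))) ρ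
    constructor
    · intro h
      have h0 : IsLocalRing.residue R ρ = 0 := (ConcreteCategory.bijective_of_isIso
        (Scheme.ΓSpecIso (CommRingCat.of (IsLocalRing.ResidueField R))).inv).1
          ((e.trans h).trans (map_zero _).symm)
      rw [IsLocalRing.residue_eq_zero_iff, ht, Ideal.mem_span_singleton] at h0
      obtain ⟨c, rfl⟩ := h0
      rw [map_mul]
      exact Ideal.mul_mem_right _ _ (Ideal.mem_span_singleton_self _)
    · intro h
      obtain ⟨c, hc⟩ := Ideal.mem_span_singleton'.1 h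
      obtain ⟨c', rfl⟩ := (ConcreteCategory.bijective_of_isIso (Scheme.ΓSpecIso (CommRingCat.of R)).inv).2 c
      rw [← map_mul] at hc
      have hρ : c' * t = ρ := (ConcreteCategory.bijective_of_isIso (Scheme.ΓSpecIso (CommRingCat.of R)).inv).1 hc
      refine e.symm.trans ?_
      show (Scheme.ΓSpecIso (CommRingCat.of (IsLocalRing.ResidueField R))).inv (IsLocalRing.residue R ρ) = 0
      rw [show IsLocalRing.residue R ρ = 0 from IsLocalRing.residue_eq_zero_iff _ |>.2
        (ht ▸ hρ ▸ Ideal.mul_mem_left _ _ (Ideal.mem_span_singleton_self t)), map_zero]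
  rw [hk, Ideal.map_span, Set.image_singleton]
  congr 2
  exact Scheme.Hom.germ_stalkMap_apply f ⊤ (i z) trivial _

theorem uS_eq_zero_iff (hsq : IsPullback i (Xs ↘ Spec (CommRingCat.of (IsLocalRing.ResidueField R))) f
    (Spec.map (CommRingCat.ofHom (IsLocalRing.residue R)))) {t : R}
    (ht : IsLocalRing.maximalIdeal R = Ideal.span {t}) (M : X.Modules) (z : Xs) (m : M.presheaf.stalk (i z)) :
    uS i M z m = 0 ↔ ∃ m', m = tauAt f t (i z) • m' := by
  haveI := isClosedImmersion_special f hsq
  have hk := ker_stalkMap_special f hsq ht z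
  constructor
  · intro h
    have h1 := uS_eq_zero i M z (i.stalkMap_surjective z) m h
    rw [hk, Submodule.ideal_span_singleton_smul] at h1
    obtain ⟨m', -, e⟩ := (Submodule.mem_smul_pointwise_iff_exists _ _ _).1 h1
    exact ⟨m', e.symm⟩
  · rintro ⟨m', rfl⟩
    rw [QuotTan26.uS_smul, RingHom.mem_ker.1 (hk.ge (Ideal.mem_span_singleton_self _)), zero_smul]

/-- The restriction of the modification to the special fibre, with the map to the kernel. -/
theorem exists_modification_seq' [IsProper f] [IsReduced Xs]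
    (hsq : IsPullback i (Xs ↘ Spec (CommRingCat.of (IsLocalRing.ResidueField R))) f
      (Spec.map (CommRingCat.ofHom (IsLocalRing.residue R))))
    {I : X.Modules} (hIc : Coh.IsCoh I)
    (hτ : ∀ (t : R), t ≠ 0 → ∀ (y : X) (a b : I.presheaf.stalk y), tauAt f t y • a = tauAt f t y • b → a = b)
    (hIs : TFOne.IsTF1 Xs ((Scheme.Modules.pullback i).obj I)) {Y : Set Xs} {GY : Xs.Modules}
    {πY : (Scheme.Modules.pullback i).obj I ⟶ GY}
    (hGY : TFOne.IsQuotOn Xs ((Scheme.Modules.pullback i).obj I) Y GY πY) :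
    TFOne.IsTF1 Xs ((Scheme.Modules.pullback i).obj (kernel ((Scheme.Modules.pullbackPushforwardAdjunction i).unit.app I ≫
      (Scheme.Modules.pushforward i).map πY))) ∧
    Coh.IsCoh (kernel ((Scheme.Modules.pullbackPushforwardAdjunction i).unit.app I ≫
      (Scheme.Modules.pushforward i).map πY)) ∧
    ∃ (j : GY ⟶ (Scheme.Modules.pullback i).obj (kernel ((Scheme.Modules.pullbackPushforwardAdjunction i).unit.app I ≫
      (Scheme.Modules.pushforward i).map πY)))
      (p : (Scheme.Modules.pullback i).obj (kernel ((Scheme.Modules.pullbackPushforwardAdjunction i).unit.app I ≫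
      (Scheme.Modules.pushforward i).map πY)) ⟶ kernel πY)
      (w : j ≫ p = 0), (ShortComplex.mk j p w).ShortExact ∧
      p ≫ kernel.ι πY = (Scheme.Modules.pullback i).map (kernel.ι ((Scheme.Modules.pullbackPushforwardAdjunction i).unit.app I ≫
      (Scheme.Modules.pushforward i).map πY)) := by
  haveI : IsNoetherianRing R := inferInstance
  haveI := isClosedImmersion_special f hsq
  haveI := isProper_special f hsq
  haveI := Euler.isNoetherian_of_proper (X := Xs) (IsLocalRing.ResidueField R)
  haveI : IsLocallyNoetherian X := LocallyOfFiniteType.isLocallyNoetherian f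
  obtain ⟨t, hirr⟩ := IsDiscreteValuationRing.exists_irreducible R
  have ht : IsLocalRing.maximalIdeal R = Ideal.span {t} := hirr.maximalIdeal_eq
  let M := (Scheme.Modules.pullback i).obj I
  let ψ : I ⟶ (Scheme.Modules.pushforward i).obj GY :=
    (Scheme.Modules.pullbackPushforwardAdjunction i).homEquiv _ _ πY
  have hψ : (Scheme.Modules.pullbackPushforwardAdjunction i).unit.app I ≫
      (Scheme.Modules.pushforward i).map πY = ψ := ((Scheme.Modules.pullbackPushforwardAdjunction i).homEquiv_unit _ _ _).symm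
  rw [hψ]
  haveI := hGY.1
  haveI := hGY.2.1.1
  haveI := hIc.1
  have hψ0 : ∀ z v, stalkLin ψ (i z) v = 0 ↔ stalkLin πY z (uS i I z v) = 0 := fun z v =>
    stalkLin_adjunct_eq_zero_iff i πY z v
  let ι := kernel.ι ψ
  have hι : ∀ y, Function.Injective (stalkLin ι y) := fun y => QCoh.stalkLin_injective ι y
  have hmem : ∀ y v, stalkLin ψ y v = 0 → ∃ n, stalkLin ι y n = v := fun y v hv =>
    (ShortComplex.moduleCat_exact_iff _).1
      ((OX.exact_iff _).1 (ShortComplex.exact_kernel ψ) y) v hv
  let μ := Formal.smulModΓ I (Coh.toGlobal f t)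
  have hμψ : μ ≫ ψ = 0 := by
    refine (OX.eq_zero_iff _).2 fun y => ModuleCat.hom_ext (LinearMap.ext fun v => ?_)
    show stalkLin (μ ≫ ψ) y v = 0
    rw [QCoh.stalkLin_comp]
    by_cases hy : y ∈ Set.range i
    · obtain ⟨z, rfl⟩ := hy
      rw [stalkLin_smulModΓ, hψ0, (uS_eq_zero_iff f hsq ht I z _).2 ⟨v, rfl⟩, map_zero]
    · have : Subsingleton (((Scheme.Modules.pushforward i).obj GY).presheaf.stalk y) :=
        QCoh.stalk_subsingleton_of_notMem fun h => hy (QCoh.support_pushforward_subset_range i GY h)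
      exact Subsingleton.elim _ _
  let c : I ⟶ kernel ψ := kernel.lift ψ μ hμψ
  have hc : ∀ y v, stalkLin ι y (stalkLin c y v) = tauAt f t y • v := fun y v => by
    rw [← QCoh.stalkLin_comp, kernel.lift_ι, stalkLin_smulModΓ]
  let M' := (Scheme.Modules.pullback i).obj (kernel ψ)
  let ρ : M' ⟶ M := (Scheme.Modules.pullback i).map ι
  have hρ : ∀ z n, stalkLin ρ z (uS i (kernel ψ) z n) = uS i I z (stalkLin ι (i z) n) :=
    fun z n => QuotTan26.uS_natural i _ z ι n
  have hιψ : ∀ y n, stalkLin ψ y (stalkLin ι y n) = 0 := fun y n => by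
    rw [← QCoh.stalkLin_comp, kernel.condition, stalkLin_zero]
  have hρπ : ρ ≫ πY = 0 := by
    refine (OX.eq_zero_iff _).2 fun z => ModuleCat.hom_ext (LinearMap.ext fun v => ?_)
    obtain ⟨n, rfl⟩ := uS_surjective i _ z v
    show stalkLin (ρ ≫ πY) z _ = 0
    rw [QCoh.stalkLin_comp, hρ]
    exact (hψ0 z _).1 (hιψ _ n)
  let p : M' ⟶ kernel πY := kernel.lift πY ρ hρπ
  have hp : ∀ z v, stalkLin (kernel.ι πY) z (stalkLin p z v) = stalkLin ρ z v := fun z v => by
    rw [← QCoh.stalkLin_comp, kernel.lift_ι]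
  let j0 : M ⟶ M' := (Scheme.Modules.pullback i).map c
  have hj0 : ∀ z m, stalkLin j0 z (uS i I z m) = uS i (kernel ψ) z (stalkLin c (i z) m) :=
    fun z m => QuotTan26.uS_natural i _ z c m
  have hkj : kernel.ι πY ≫ j0 = 0 := by
    refine (OX.eq_zero_iff _).2 fun z => ModuleCat.hom_ext (LinearMap.ext fun v => ?_)
    show stalkLin (kernel.ι πY ≫ j0) z v = 0
    rw [QCoh.stalkLin_comp]
    obtain ⟨m, hm⟩ := uS_surjective i _ z (stalkLin (kernel.ι πY) z v)
    rw [← hm, hj0]
    obtain ⟨n, hn⟩ := hmem (i z) m ((hψ0 z m).2 (by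
      rw [hm, ← QCoh.stalkLin_comp, kernel.condition, stalkLin_zero]))
    refine (uS_eq_zero_iff f hsq ht _ z _).2 ⟨n, hι _ ?_⟩
    rw [hc, map_smul, hn]
  let j : GY ⟶ M' := Abelian.epiDesc πY j0 hkj
  have hj : ∀ z m, stalkLin j z (stalkLin πY z (uS i I z m)) = uS i (kernel ψ) z (stalkLin c (i z) m) := fun z m => by
    rw [← QCoh.stalkLin_comp, Abelian.comp_epiDesc, hj0]
  have hw : j ≫ p = 0 := by
    rw [← cancel_mono (kernel.ι πY), Category.assoc, kernel.lift_ι, zero_comp]
    refine (OX.eq_zero_iff _).2 fun z => ModuleCat.hom_ext (LinearMap.ext fun v => ?_)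
    show stalkLin (j ≫ ρ) z v = 0
    rw [QCoh.stalkLin_comp]
    obtain ⟨w, rfl⟩ := QCoh.stalkLin_surjective πY z v
    obtain ⟨m, rfl⟩ := uS_surjective i _ z w
    rw [hj, hρ, hc]
    exact (uS_eq_zero_iff f hsq ht I z _).2 ⟨m, rfl⟩
  have hjinj : ∀ z, Function.Injective (stalkLin j z) := by
    intro z
    refine (injective_iff_map_eq_zero _).2 fun v hv => ?_
    obtain ⟨w, rfl⟩ := QCoh.stalkLin_surjective πY z v
    obtain ⟨m, rfl⟩ := uS_surjective i _ z w
    rw [hj] at hv
    obtain ⟨n, hn⟩ := (uS_eq_zero_iff f hsq ht _ z _).1 hv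
    have h1 : tauAt f t (i z) • m = tauAt f t (i z) • stalkLin ι (i z) n := by
      rw [← hc, hn, map_smul]
    rw [hτ t hirr.ne_zero _ _ _ h1]
    exact (hψ0 z _).1 (hιψ _ n)
  have hpsurj : ∀ z, Function.Surjective (stalkLin p z) := by
    intro z v
    obtain ⟨m, hm⟩ := uS_surjective i _ z (stalkLin (kernel.ι πY) z v)
    obtain ⟨n, hn⟩ := hmem (i z) m ((hψ0 z m).2 (by
      rw [hm, ← QCoh.stalkLin_comp, kernel.condition, stalkLin_zero]))
    refine ⟨uS i _ z n, QCoh.stalkLin_injective (kernel.ι πY) z ?_⟩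
    rw [hp, hρ, hn, hm]
  have hexact : ∀ z v, stalkLin p z v = 0 → ∃ g, stalkLin j z g = v := by
    intro z v hv
    obtain ⟨n, rfl⟩ := uS_surjective i _ z v
    have h0 : uS i I z (stalkLin ι (i z) n) = 0 := by rw [← hρ, ← hp, hv, map_zero]
    obtain ⟨m, hm⟩ := (uS_eq_zero_iff f hsq ht I z _).1 h0
    refine ⟨stalkLin πY z (uS i I z m), ?_⟩
    rw [hj]
    congr 1
    exact hι _ (by rw [hc, hm])
  haveI : Mono j := (OX.mono_iff j).2 fun z => (ModuleCat.mono_iff_injective _).2 (hjinj z)
  haveI : Epi p := (OX.epi_iff p).2 fun z => (ModuleCat.epi_iff_surjective _).2 (hpsurj z)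
  have hS : (ShortComplex.mk j p hw).ShortExact :=
    { exact := (OX.exact_iff _).2 fun z => (ShortComplex.moduleCat_exact_iff _).2 fun v hv => hexact z v hv }
  haveI : ((Scheme.Modules.pushforward i).obj GY).IsQuasicoherent := QCoh.isQuasicoherent_pushforward _ _
  haveI : (kernel ψ).IsQuasicoherent := QCoh.isQuasicoherent_kernel _
  have hM' : Coh.IsCoh M' :=
    ModDesc.isCoh_pullback i _ ⟨inferInstance, QCoh.isFiniteType_of_mono ι hIc.2⟩
  have htf : TorSh.IsTorsionFree M' := fun z => by
    haveI : Module.IsTorsionFree (Xs.presheaf.stalk z) (GY.presheaf.stalk z) := hGY.2.2.1 z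
    haveI : Module.IsTorsionFree (Xs.presheaf.stalk z) (M.presheaf.stalk z) := hIs.2.1 z
    haveI : Module.IsTorsionFree (Xs.presheaf.stalk z) ((kernel πY).presheaf.stalk z) :=
      (QCoh.stalkLin_injective (kernel.ι πY) z).moduleIsTorsionFree _ fun r v => map_smul _ r v
    refine ⟨fun r hr => fun a b hab => sub_eq_zero.1 ?_⟩
    have h0 : r • (a - b) = 0 := by rw [smul_sub]; exact sub_eq_zero.2 hab
    have hp0 : stalkLin p z (a - b) = 0 :=
      hr.isSMulRegular (show r • stalkLin p z (a - b) = r • 0 by rw [← map_smul, h0, map_zero, smul_zero])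
    obtain ⟨g, hg⟩ := hexact z _ hp0
    have hg0 : g = 0 := hr.isSMulRegular (show r • g = r • 0 from hjinj z (by
      rw [map_smul, hg, h0, smul_zero, map_zero]))
    rw [← hg, hg0, map_zero]
  refine ⟨⟨hM', htf, fun η hη => ?_⟩, ⟨inferInstance, QCoh.isFiniteType_of_mono ι hIc.2⟩, j, p, hw, hS,
    kernel.lift_ι _ _ _⟩
  obtain ⟨e⟩ := hIs.2.2 η hη
  by_cases hηY : η ∈ Y
  · have hπinj : Function.Injective (stalkLin πY η) := (injective_iff_map_eq_zero _).2 fun v hv =>
      (hasLines_of_tf1 hIs).stalk_injective hGY hη hηY hv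
    have hjsurj : Function.Surjective (stalkLin j η) := fun v => hexact η v (by
      apply QCoh.stalkLin_injective (kernel.ι πY) η
      apply hπinj
      rw [← QCoh.stalkLin_comp (kernel.ι πY) πY, kernel.condition, stalkLin_zero, map_zero, map_zero])
    exact ⟨(LinearEquiv.ofBijective (stalkLin j η) ⟨hjinj η, hjsurj⟩).symm.trans
      ((LinearEquiv.ofBijective (stalkLin πY η) ⟨hπinj, QCoh.stalkLin_surjective πY η⟩).symm.trans e)⟩
  · have hpinj : Function.Injective (stalkLin p η) := (injective_iff_map_eq_zero _).2 fun v hv => by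
      obtain ⟨g, rfl⟩ := hexact η v hv
      rw [stalk_eq_zero_of_notMem hGY hηY g, map_zero]
    have hksurj : Function.Surjective (stalkLin (kernel.ι πY) η) := fun v =>
      (ShortComplex.moduleCat_exact_iff _).1 ((OX.exact_iff _).1 (ShortComplex.exact_kernel πY) η) v
        (stalk_eq_zero_of_notMem hGY hηY _)
    exact ⟨(LinearEquiv.ofBijective (stalkLin p η) ⟨hpinj, hpsurj η⟩).trans
      ((LinearEquiv.ofBijective (stalkLin (kernel.ι πY) η)
        ⟨QCoh.stalkLin_injective (kernel.ι πY) η, hksurj⟩).trans e)⟩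

/-- The restriction of the modification to the special fibre. -/
theorem exists_modification_seq [IsProper f] [IsReduced Xs]
    (hsq : IsPullback i (Xs ↘ Spec (CommRingCat.of (IsLocalRing.ResidueField R))) f
      (Spec.map (CommRingCat.ofHom (IsLocalRing.residue R))))
    {I : X.Modules} (hIc : Coh.IsCoh I) (hIf : FlatMod.IsFlatOver f I)
    (hIs : TFOne.IsTF1 Xs ((Scheme.Modules.pullback i).obj I)) {Y : Set Xs} {GY : Xs.Modules}
    {πY : (Scheme.Modules.pullback i).obj I ⟶ GY}
    (hGY : TFOne.IsQuotOn Xs ((Scheme.Modules.pullback i).obj I) Y GY πY) {IY : X.Modules}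
    (hIY : IY = kernel ((Scheme.Modules.pullbackPushforwardAdjunction i).unit.app I ≫
      (Scheme.Modules.pushforward i).map πY)) :
    TFOne.IsTF1 Xs ((Scheme.Modules.pullback i).obj IY) ∧
    ∃ (j : GY ⟶ (Scheme.Modules.pullback i).obj IY) (p : (Scheme.Modules.pullback i).obj IY ⟶ kernel πY)
      (w : j ≫ p = 0), (ShortComplex.mk j p w).ShortExact := by
  subst hIY
  obtain ⟨h1, -, j, p, w, hS, -⟩ := exists_modification_seq' f hsq hIc
    (fun _ ht y _ _ h => tauAt_smul_injective f hIf ht y h) hIs hGY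
  exact ⟨h1, j, p, w, hS⟩

end Fibre

end GrothLib.TFSimple15
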