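import Groth.Agent.Lib.TFSimple15.Beta
import Groth.Agent.Lib.TFSimple15.PullStalk
import Groth.Agent.Lib.LeffAmp7.Stalks
import Groth.Agent.Lib.OX.ClosedPush
import Groth.Agent.Lib.ModDesc.Approx

/-!
Semistability of the torsion-free quotient on a subcurve, seen on the subcurve itself.
-/

set_option autoImplicit false
set_option linter.style.haveILetI false
set_option backward.isDefEq.respectTransparency false

universe u

open CategoryTheory CategoryTheory.Limits AlgebraicGeometry TopologicalSpace Opposite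
open GrothLib.QCoh (stalkLin)
open GrothLib.SubCurve16 (Detect)
open GrothLib.Euler (tF)
open GrothLib.QuotTan26 (uS)

noncomputable section

namespace GrothLib.TFSimple15

variable (k : Type u) [Field k] {X : Scheme.{u}} [X.Over (Spec (CommRingCat.of k))]
  [IsProper (X ↘ Spec (CommRingCat.of k))] [IsReduced X]

include k

omit [IsReduced X] in
/-- A union of components of a union of components is a union of components. -/
theorem isUnion_image {Y : Set X} (hY : IsClosed Y) (hYs : VecSt.IsSubcurve X Y)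
    {Z : Set (VecSt.subsch X Y hY)} (hZ : IsClosed Z) (hZu : IsUnion Z) :
    IsUnion (VecSt.subschι X Y hY '' Z) := by
  let ι := VecSt.subschι X Y hY
  have hcl : IsClosed (ι '' Z) := ι.isClosedEmbedding.isClosedMap _ hZ
  refine ⟨{C | C ∈ irreducibleComponents (X : Type u) ∧ C ⊆ ι '' Z}, fun C h => h.1,
    Set.Subset.antisymm ?_ (Set.sUnion_subset fun C h => h.2)⟩
  rintro _ ⟨x, hx, rfl⟩
  obtain ⟨ζ, hζ, hζZ, hs⟩ := hZu.exists_generic hx
  have hg := mem_genericPoints_of_subsch hY hYs (fun z hz => FinAff13.mem_genericPoints_iff.1 hζ z hz)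
  exact ⟨closure {ι ζ}, ⟨hg, closure_minimal (Set.singleton_subset_iff.2 ⟨ζ, hζZ, rfl⟩) hcl⟩,
    specializes_iff_mem_closure.1 (hs.map ι.continuous)⟩

variable {E : X.Modules} {r : ℕ}

/-- The torsion-free quotient on a subcurve is semistable there. -/
theorem isSemistable_sub (hd : topologicalKrullDim X ≤ 1) (hE : FlatMod.IsFinLocFreeOfRank r E) {M GY : X.Modules}
    (hss : TFOne.IsSemistable X k (X ↘ Spec (CommRingCat.of k)) M E r)
    (h0 : (r : ℤ) * Curv2.euler k X M + Curv2.deg k X E r = 0) {Y : Set X} (hY : IsClosed Y)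
    (hYs : VecSt.IsSubcurve X Y) {πY : M ⟶ GY} (hGY : TFOne.IsQuotOn X M Y GY πY) :
    TFOne.IsSemistable (VecSt.subsch X Y hY) k (VecSt.subschι X Y hY ≫ (X ↘ Spec (CommRingCat.of k)))
      ((Scheme.Modules.pullback (VecSt.subschι X Y hY)).obj GY)
      ((Scheme.Modules.pullback (VecSt.subschι X Y hY)).obj E) r := by
  haveI := Euler.isNoetherian_of_proper (X := X) k
  let ι := VecSt.subschι X Y hY
  letI : (VecSt.subsch X Y hY).Over (Spec (CommRingCat.of k)) := ⟨ι ≫ (X ↘ Spec (CommRingCat.of k))⟩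
  haveI : IsClosedImmersion ι := inferInstanceAs (IsClosedImmersion (Scheme.IdealSheafData.subschemeι _))
  haveI : IsReduced (VecSt.subsch X Y hY) := GrothLib.RedSub.isReduced_subscheme_vanishingIdeal _
  haveI : IsProper ((VecSt.subsch X Y hY) ↘ Spec (CommRingCat.of k)) :=
    inferInstanceAs (IsProper (ι ≫ (X ↘ Spec (CommRingCat.of k))))
  haveI := Euler.isNoetherian_of_proper (X := VecSt.subsch X Y hY) k
  have hr : Set.range ι = Y := Scheme.IdealSheafData.range_subschemeι _
  let P := Scheme.Modules.pullback ι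
  let F := Scheme.Modules.pushforward ι
  let G' := P.obj GY
  have hG' : Coh.IsCoh G' := ModDesc.isCoh_pullback ι GY hGY.2.1
  haveI := hGY.2.1.1
  haveI := hG'.1
  have hL : HasLines GY := by
    haveI : Epi πY := hGY.1
    exact (hasLines_of_tf1 hss.1).of_epi πY
  have hgen : ∀ z ∈ genericPoints ((VecSt.subsch X Y hY) : Type u), ι z ∈ genericPoints (X : Type u) :=
    fun z hz => mem_genericPoints_of_subsch hY hYs fun w hw => FinAff13.mem_genericPoints_iff.1 hz w hw
  have hinj : ∀ z, ι z ∈ genericPoints (X : Type u) → Function.Injective (uS ι GY z) := fun z hz => by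
    refine (injective_iff_map_eq_zero _).2 fun m hm => ?_
    have h := uS_eq_zero ι GY z (ι.stalkMap_surjective z) m hm
    have hker : RingHom.ker (ι.stalkMap z).hom = ⊥ := by
      letI := (GrothLib.SubCurve16.isField_stalk hz).toField
      exact (RingHom.injective_iff_ker_eq_bot _).1 (RingHom.injective _)
    rwa [hker, Submodule.bot_smul, Submodule.mem_bot] at h
  let u : GY ⟶ F.obj G' := (Scheme.Modules.pullbackPushforwardAdjunction ι).unit.app GY
  have hu : u = (Scheme.Modules.pullbackPushforwardAdjunction ι).homEquiv _ _ (𝟙 _) :=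
    ((Scheme.Modules.pullbackPushforwardAdjunction ι).homEquiv_id _).symm
  haveI : Epi u := LeffAmp7.epi_unit_closed ι GY
  haveI : Mono u := by
    refine Preadditive.mono_of_kernel_zero (hom_ext_generic k hGY.2.2.1 _ _ fun η hη v => ?_)
    rw [stalkLin_zero]
    by_cases hηY : η ∈ Y
    · obtain ⟨z, rfl⟩ := hr.ge hηY
      have h : stalkLin u (ι z) (stalkLin (kernel.ι u) (ι z) v) = 0 := by
        rw [← QCoh.stalkLin_comp, kernel.condition, stalkLin_zero]
      generalize stalkLin (kernel.ι u) (ι z) v = m at h ⊢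
      rw [hu, stalkLin_adjunct_eq_zero_iff, QCoh.stalkLin_id] at h
      exact hinj z hη (h.trans (map_zero _).symm)
    · exact stalk_eq_zero_of_notMem hGY hηY _
  haveI : IsIso u := isIso_of_mono_of_epi u
  have hdet : Detect (F.obj G') (genericPoints (X : Type u)) :=
    (detect_of_isTorsionFree hGY.2.2.1).of_mono (inv u)
  have hdet' : Detect G' (genericPoints ((VecSt.subsch X Y hY) : Type u)) := by
    intro U s hs
    obtain ⟨V, hV, hVU⟩ := ι.isClosedEmbedding.isInducing.isOpen_iff.1 U.2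
    obtain rfl : ι ⁻¹ᵁ ⟨V, hV⟩ = U := Opens.ext hVU
    refine hdet ⟨V, hV⟩ (show Γ(F.obj G', ⟨V, hV⟩) from s) fun η hη hgη => ?_
    by_cases hηY : η ∈ Y
    · obtain ⟨z, rfl⟩ := hr.ge hηY
      refine (QCoh.pushStalkHom_bijective ι z G' ι.isClosedEmbedding.isInducing).1 ?_
      refine ((QCoh.pushStalkHom_germ ι z G' ⟨V, hV⟩ hη s).trans
        (hs z hη (FinAff13.mem_genericPoints_iff.2 fun w hw =>
          ι.isClosedEmbedding.injective (FinAff13.mem_genericPoints_iff.1 hgη _ (hw.map ι.continuous))))).trans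
        (map_zero _).symm
    · have : Subsingleton ((F.obj G').presheaf.stalk η) :=
        QCoh.stalk_subsingleton_of_notMem fun h => hηY (hr.le (QCoh.support_pushforward_subset_range ι G' h))
      exact Subsingleton.elim _ _
  have hTF : TFOne.IsTF1 (VecSt.subsch X Y hY) G' := by
    refine ⟨hG', isTorsionFree_of_detect hdet', fun z hz => ?_⟩
    have hfz := GrothLib.SubCurve16.isField_stalk (hgen z hz)
    haveI : Epi πY := hGY.1
    obtain ⟨e⟩ := hss.1.2.2 (ι z) (hgen z hz)
    have hzY : ι z ∈ Y := hr.le ⟨z, rfl⟩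
    let e' : GY.presheaf.stalk (ι z) ≃ₗ[X.presheaf.stalk (ι z)] X.presheaf.stalk (ι z) :=
      (LinearEquiv.ofBijective (stalkLin πY (ι z)) ⟨(injective_iff_map_eq_zero _).2 fun v hv =>
        (hasLines_of_tf1 hss.1).stalk_injective hGY (hgen z hz) hzY hv, QCoh.stalkLin_surjective πY (ι z)⟩).symm.trans e
    let g : G'.presheaf.stalk z := uS ι GY z (e'.symm 1)
    refine ⟨(LinearEquiv.ofBijective (LinearMap.toSpanSingleton _ _ g) ⟨?_, fun v => ?_⟩).symm⟩
    · refine (injective_iff_map_eq_zero _).2 fun c hc => ?_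
      obtain ⟨a, rfl⟩ := ι.stalkMap_surjective z c
      rw [LinearMap.toSpanSingleton_apply, show g = uS ι GY z (e'.symm 1) from rfl, ← QuotTan26.uS_smul] at hc
      have ha := hinj z (hgen z hz) (hc.trans (map_zero _).symm)
      rw [← map_smul, smul_eq_mul, mul_one, e'.symm.map_eq_zero_iff] at ha
      rw [ha, map_zero]
    · obtain ⟨m, rfl⟩ := uS_surjective ι GY z v
      refine ⟨(ι.stalkMap z).hom (e' m), ?_⟩
      rw [LinearMap.toSpanSingleton_apply, ← QuotTan26.uS_smul, ← map_smul, smul_eq_mul, mul_one,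
        LinearEquiv.symm_apply_apply]
  refine ⟨hTF, fun Z hZ hZs _ G π hG => ?_⟩
  haveI : Epi π := hG.1
  haveI := hG.2.1.1
  haveI := OX.preservesHomology_pushforward ι
  have hZu := isUnion_of_subcurve hZs
  let T : Set X := ι '' Z
  have hT : IsClosed T := ι.isClosedEmbedding.isClosedMap _ hZ
  have hTu : IsUnion T := isUnion_image k hY hYs hZ hZu
  have hpush : ∀ {N : (VecSt.subsch X Y hY).Modules}, Coh.IsCoh N → TorSh.IsTorsionFree N →
      CohB1.support N = Z → Coh.IsCoh (F.obj N) ∧ TorSh.IsTorsionFree (F.obj N) ∧ CohB1.support (F.obj N) = T := by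
    intro N hN hNtf hNs
    haveI := hN.1
    have hc : Coh.IsCoh (F.obj N) :=
      ⟨QCoh.isQuasicoherent_pushforward _ _, QCoh.isFiniteType_pushforward ι N hN.2⟩
    have htf : TorSh.IsTorsionFree (F.obj N) := isTorsionFree_of_detect (detect_push_tf hY hYs hNtf)
    refine ⟨hc, htf, support_eq_of_generic hc htf hTu fun η hη => ?_⟩
    by_cases hηY : η ∈ Y
    · obtain ⟨z, rfl⟩ := hr.ge hηY
      rw [show (ι z ∈ T ↔ z ∈ Z) from ι.isClosedEmbedding.injective.mem_set_image, ← hNs]
      exact not_congr (Equiv.ofBijective _ (QCoh.pushStalkHom_bijective ι z N ι.isClosedEmbedding.isInducing)).subsingleton_congr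
    · exact ⟨fun h => absurd (hr.le (QCoh.support_pushforward_subset_range ι N h)) hηY,
        fun ⟨z, _, e⟩ => absurd (hr.le ⟨z, e⟩) hηY⟩
  obtain ⟨p1, p2, p3⟩ := hpush hG.2.1 hG.2.2.1 hG.2.2.2
  haveI : Epi (F.map π) := Functor.map_epi F π
  haveI : Epi πY := hGY.1
  have hQ : TFOne.IsQuotOn X M T (F.obj G) (πY ≫ u ≫ F.map π) := ⟨inferInstance, p1, p2, p3⟩
  have hβ := rBeta_nonneg k hd hE hss h0 hT hTu hQ
  let I := Scheme.IdealSheafData.vanishingIdeal (⟨Z, hZ⟩ : TopologicalSpace.Closeds (VecSt.subsch X Y hY))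
  have hQO := isQuotOn_toSubscheme k hZ hZu
  haveI : Epi (ClSub.toSubscheme (Scheme.IdealSheafData.vanishingIdeal
      (⟨Z, hZ⟩ : TopologicalSpace.Closeds (VecSt.subsch X Y hY)))) := hQO.1
  obtain ⟨o1, o2, o3⟩ := hpush hQO.2.1 hQO.2.2.1 hQO.2.2.2
  haveI : Epi (ClSub.toSubscheme (Scheme.IdealSheafData.vanishingIdeal (⟨Y, hY⟩ : TopologicalSpace.Closeds X))) :=
    Euler.epi_toSubscheme _
  have hQO' : TFOne.IsQuotOn X (Coh.structureModule X) T (F.obj (ClSub.quotMod I))
      (ClSub.toSubscheme (Scheme.IdealSheafData.vanishingIdeal (⟨Y, hY⟩ : TopologicalSpace.Closeds X)) ≫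
        F.map (ClSub.toSubscheme I)) := ⟨epi_comp _ _, o1, o2, o3⟩
  obtain ⟨e, -⟩ := exists_iso_quot k hasLines_structureModule (isQuotOn_toSubscheme k hT hTu) hQO' fun η _ => Iff.rfl
  have hE'' := OX.isFinLocFree_pullback ι (fun x => let ⟨U, hx, h⟩ := hE x; ⟨U, r, hx, h⟩ : FlatMod.IsFinLocFree E)
  haveI := hQO.2.1.1
  haveI := ProjFormula.isIso_projHom ι (fun x => let ⟨U, hx, h⟩ := hE x; ⟨U, r, hx, h⟩ : FlatMod.IsFinLocFree E)
    (ClSub.quotMod I)
  have e1 : (tF E).obj (F.obj (ClSub.quotMod I)) ≅ F.obj ((tF (P.obj E)).obj (ClSub.quotMod I)) :=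
    ((OX.tensorBraiding (X := X)).app E).app _ ≪≫
      asIso (ProjFormula.projHom ι E (ClSub.quotMod I)) ≪≫
      F.mapIso (((OX.tensorBraiding (X := VecSt.subsch X Y hY)).app (P.obj E)).app _).symm
  haveI := (Euler.isCoh_tF hQO.2.1 hE'').1
  have hdeg : degOn k T hT E r = degOn k Z hZ (P.obj E) r := by
    rw [degOn_eq k T hT hE, degOn_eq k Z hZ (OX.isFinLocFreeOfRank_pullback ι hE), degFun, degFun,
      Euler.euler_of_iso k ((tF E).mapIso e), Euler.euler_of_iso k e, Euler.euler_of_iso k e1,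
      Snapper.euler_pushforward ι rfl, Snapper.euler_pushforward ι rfl]
  rw [rBeta_eq, hdeg, Snapper.euler_pushforward ι rfl] at hβ
  show 0 ≤ TFOne.rBeta (VecSt.subsch X Y hY) k ((VecSt.subsch X Y hY) ↘ Spec (CommRingCat.of k)) Z hZ (P.obj E) r G
  rw [rBeta_eq]
  exact hβ

end GrothLib.TFSimple15
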