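import Groth.Agent.Lib.TFSimple15.Modif
import Groth.Agent.Lib.TFSimple15.Beta
import Groth.Agent.Lib.FormalExist7.Proper
import Mathlib.RingTheory.Flat.Localization
import Mathlib.RingTheory.Filtration

/-!
A tower of modifications along a subcurve at which all the restrictions decompose gives a flat quotient.
-/

set_option autoImplicit false
set_option linter.style.haveILetI false
set_option linter.unusedSectionVars false
set_option backward.isDefEq.respectTransparency false

universe u

open CategoryTheory CategoryTheory.Limits AlgebraicGeometry TopologicalSpace Opposite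
open GrothLib.QCoh (stalkLin)
open GrothLib.QuotTan26 (uS)

noncomputable section

namespace GrothLib.TFSimple15

variable {R : Type u} [CommRing R] [IsDomain R] [IsDiscreteValuationRing R] {X : Scheme.{u}}
  {f : X ⟶ Spec (CommRingCat.of R)} {Xs : Scheme.{u}} {i : Xs ⟶ X}
  [Xs.Over (Spec (CommRingCat.of (IsLocalRing.ResidueField R)))] [IsProper f] [IsReduced Xs]
  (hsq : IsPullback i (Xs ↘ Spec (CommRingCat.of (IsLocalRing.ResidueField R))) f
    (Spec.map (CommRingCat.ofHom (IsLocalRing.residue R))))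

include hsq

omit hsq in
/-- The map whose kernel is the modification. -/
abbrev psiMap {I : X.Modules} {GY : Xs.Modules} (πY : (Scheme.Modules.pullback i).obj I ⟶ GY) :
    I ⟶ (Scheme.Modules.pushforward i).obj GY :=
  (Scheme.Modules.pullbackPushforwardAdjunction i).homEquiv _ _ πY

omit hsq in
theorem unit_comp_eq_psiMap {I : X.Modules} {GY : Xs.Modules} (πY : (Scheme.Modules.pullback i).obj I ⟶ GY) :
    (Scheme.Modules.pullbackPushforwardAdjunction i).unit.app I ≫ (Scheme.Modules.pushforward i).map πY =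
      psiMap πY :=
  ((Scheme.Modules.pullbackPushforwardAdjunction i).homEquiv_unit _ _ _).symm

/-- Membership in the modification, on stalks over the special fibre. -/
theorem psi_eq_zero_iff {I : X.Modules} {GY : Xs.Modules} (πY : (Scheme.Modules.pullback i).obj I ⟶ GY)
    (z : Xs) (m : I.presheaf.stalk (i z)) :
    stalkLin (psiMap πY) (i z) m = 0 ↔ stalkLin πY z (uS i I z m) = 0 := by
  haveI := isClosedImmersion_special f hsq
  exact stalkLin_adjunct_eq_zero_iff i πY z m

/-- One step of a tower of modifications decomposing along `Y`. -/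
theorem tower_step {t : R} (ht : IsLocalRing.maximalIdeal R = Ideal.span {t})
    {I I' I'' : X.Modules} (hIc : Coh.IsCoh I)
    (hτ : ∀ (t : R), t ≠ 0 → ∀ (y : X) (a b : I.presheaf.stalk y), tauAt f t y • a = tauAt f t y • b → a = b)
    (hIs : TFOne.IsTF1 Xs ((Scheme.Modules.pullback i).obj I)) {Y Y' : Set Xs} {GY G1 G2 : Xs.Modules}
    {πY : (Scheme.Modules.pullback i).obj I ⟶ GY} {π1 : (Scheme.Modules.pullback i).obj I' ⟶ G1}
    {π2 : (Scheme.Modules.pullback i).obj I' ⟶ G2}
    (hGY : TFOne.IsQuotOn Xs ((Scheme.Modules.pullback i).obj I) Y GY πY)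
    (hG2 : TFOne.IsQuotOn Xs ((Scheme.Modules.pullback i).obj I') Y' G2 π2) (hY'u : IsUnion Y')
    (hY' : ∀ η ∈ genericPoints (Xs : Type u), (η ∈ Y' ↔ η ∉ Y)) (hdec : IsIso (biprod.lift π1 π2))
    (h1 : I' = kernel (psiMap πY)) (h2 : I'' = kernel (psiMap π1)) (z : Xs) :
    (∀ (x : I.presheaf.stalk (i z)) (a : I''.presheaf.stalk (i z)),
        stalkLin ((eqToHom h2 ≫ kernel.ι _) ≫ eqToHom h1 ≫ kernel.ι _) (i z) a = tauAt f t (i z) • x →
        ∃ x', stalkLin (eqToHom h1 ≫ kernel.ι _) (i z) x' = x) ∧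
      ∀ a : I'.presheaf.stalk (i z), ∃ (x : I.presheaf.stalk (i z)) (b : I''.presheaf.stalk (i z)),
        stalkLin (eqToHom h1 ≫ kernel.ι _) (i z) a = tauAt f t (i z) • x +
          stalkLin ((eqToHom h2 ≫ kernel.ι _) ≫ eqToHom h1 ≫ kernel.ι _) (i z) b := by
  subst h1 h2
  simp only [eqToHom_refl, Category.id_comp]
  haveI := isClosedImmersion_special f hsq
  haveI := isProper_special f hsq
  haveI := Euler.isNoetherian_of_proper (X := Xs) (IsLocalRing.ResidueField R)
  let ψ := psiMap πY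
  let ψ' := psiMap π1
  have hmod := exists_modification_seq' f hsq hIc hτ hIs hGY
  rw [unit_comp_eq_psiMap πY] at hmod
  obtain ⟨hM', -, j, p, w, hS, hp⟩ := hmod
  have hK := isQuotOn_kernel (IsLocalRing.ResidueField R) hIs hM' hGY hS hY'u hY'
  obtain ⟨e, he⟩ := exists_iso_quot (IsLocalRing.ResidueField R) (hasLines_of_tf1 hM') hK hG2 fun η _ => Iff.rfl
  have hπ2 : ∀ v, stalkLin π2 z v = 0 ↔ stalkLin ((Scheme.Modules.pullback i).map (kernel.ι ψ)) z v = 0 := by
    intro v
    have e1 : stalkLin ((Scheme.Modules.pullback i).map (kernel.ι ψ)) z v =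
        stalkLin (kernel.ι πY) z (stalkLin p z v) := by rw [← hp, QCoh.stalkLin_comp]
    rw [← he, QCoh.stalkLin_comp, e1]
    exact ⟨fun h => by rw [QCoh.stalkLin_injective e.hom z (h.trans (map_zero _).symm), map_zero],
      fun h => by rw [QCoh.stalkLin_injective (kernel.ι πY) z (h.trans (map_zero _).symm), map_zero]⟩
  have hnat : ∀ n, stalkLin ((Scheme.Modules.pullback i).map (kernel.ι ψ)) z (uS i (kernel ψ) z n) =
      uS i I z (stalkLin (kernel.ι ψ) (i z) n) := fun n => QuotTan26.uS_natural i _ z _ n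
  refine ⟨fun x a ha => ?_, fun a => ?_⟩
  · rw [QCoh.stalkLin_comp] at ha
    let n := stalkLin (kernel.ι ψ') (i z) a
    have h1 : stalkLin π1 z (uS i (kernel ψ) z n) = 0 :=
      (psi_eq_zero_iff hsq π1 z n).1 (by rw [← QCoh.stalkLin_comp, kernel.condition, stalkLin_zero])
    have h2 : stalkLin π2 z (uS i (kernel ψ) z n) = 0 :=
      (hπ2 _).2 (by rw [hnat]; exact (uS_eq_zero_iff f hsq ht I z _).2 ⟨x, ha⟩)
    have h0 : uS i (kernel ψ) z n = 0 := QCoh.stalkLin_injective (biprod.lift π1 π2) z (by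
      rw [map_zero, show biprod.lift π1 π2 = π1 ≫ biprod.inl + π2 ≫ biprod.inr from biprod.lift_eq,
        QCoh.stalkLin_add, QCoh.stalkLin_comp, QCoh.stalkLin_comp, h1, h2, map_zero, map_zero, add_zero])
    obtain ⟨n2, hn2⟩ := (uS_eq_zero_iff f hsq ht _ z n).1 h0
    refine ⟨n2, hτ t (fun h0' => IsDiscreteValuationRing.not_a_field R
      (ht.trans (Ideal.span_singleton_eq_bot.2 h0'))) _ _ _ ?_⟩
    rw [← map_smul, ← hn2]
    exact ha
  · obtain ⟨v, hv⟩ := QCoh.stalkLin_surjective (biprod.lift π1 π2) z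
      (stalkLin (biprod.inl : G1 ⟶ G1 ⊞ G2) z (stalkLin π1 z (uS i (kernel ψ) z a)))
    obtain ⟨n, rfl⟩ := uS_surjective i _ z v
    have h1 : stalkLin π1 z (uS i (kernel ψ) z n) = stalkLin π1 z (uS i (kernel ψ) z a) := by
      have h := congrArg (stalkLin (biprod.fst : G1 ⊞ G2 ⟶ G1) z) hv
      rwa [← QCoh.stalkLin_comp (biprod.lift π1 π2), biprod.lift_fst, ← QCoh.stalkLin_comp biprod.inl,
        biprod.inl_fst, QCoh.stalkLin_id] at h
    have h2 : stalkLin π2 z (uS i (kernel ψ) z n) = 0 := by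
      have h := congrArg (stalkLin (biprod.snd : G1 ⊞ G2 ⟶ G2) z) hv
      rwa [← QCoh.stalkLin_comp (biprod.lift π1 π2), biprod.lift_snd, ← QCoh.stalkLin_comp biprod.inl,
        biprod.inl_snd, stalkLin_zero] at h
    obtain ⟨x, hx⟩ := (uS_eq_zero_iff f hsq ht I z _).1 ((hnat n).symm.trans ((hπ2 _).1 h2))
    obtain ⟨b, hb⟩ := exists_stalk_kernel ψ' (i z) (v := a - n) ((psi_eq_zero_iff hsq π1 z _).2 (by
      rw [map_sub, map_sub, h1, sub_self]))
    refine ⟨x, b, ?_⟩
    rw [QCoh.stalkLin_comp, hb, map_sub, ← hx, add_sub_cancel]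

/-- At points away from the special fibre the uniformiser is invertible. -/
theorem mem_range_of_not_isUnit {t : R} (ht : IsLocalRing.maximalIdeal R = Ideal.span {t}) {y : X}
    (h : ¬ IsUnit (tauAt f t y)) : y ∈ Set.range i := by
  have hmem : t ∈ (f y : PrimeSpectrum R).asIdeal := by
    by_contra hn
    apply h
    have hu : IsUnit ((Spec (CommRingCat.of R)).presheaf.germ ⊤ (f y) trivial
        ((Scheme.ΓSpecIso (CommRingCat.of R)).inv t)) := by
      refine ((Spec (CommRingCat.of R)).mem_basicOpen ((Scheme.ΓSpecIso (CommRingCat.of R)).inv t) (f y) trivial).1 ?_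
      rw [basicOpen_eq_of_affine]
      exact hn
    exact (congrArg IsUnit (Scheme.Hom.germ_stalkMap_apply f ⊤ y trivial _)).mp (hu.map (f.stalkMap y).hom)
  have hm : (f y : PrimeSpectrum R).asIdeal = IsLocalRing.maximalIdeal R :=
    le_antisymm (IsLocalRing.le_maximalIdeal (f y : PrimeSpectrum R).isPrime.ne_top)
      (ht ▸ (Ideal.span_singleton_le_iff_mem _).2 hmem)
  obtain ⟨z, hz, -⟩ := Scheme.Pullback.exists_preimage_pullback (f := f)
    (g := Spec.map (CommRingCat.ofHom (IsLocalRing.residue R))) y (IsLocalRing.closedPoint (IsLocalRing.ResidueField R))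
    (PrimeSpectrum.ext (hm.trans (by
      show _ = Ideal.comap (IsLocalRing.residue R) (IsLocalRing.maximalIdeal (IsLocalRing.ResidueField R))
      rw [IsLocalRing.isField_iff_maximalIdeal_eq.1 (Field.toIsField _)]
      exact Ideal.mk_ker.symm)))
  refine ⟨hsq.isoPullback.inv z, ?_⟩
  rw [← hz, ← Scheme.Hom.comp_apply, hsq.isoPullback_inv_fst]

/-- A tower of modifications along `Y` all decomposing at `Y` gives a flat quotient extending `F_Y`. -/
theorem exists_flat_quotient [IsAdicComplete (IsLocalRing.maximalIdeal R) R] (In : ℕ → X.Modules)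
    (hIc : Coh.IsCoh (In 0)) (hIf : FlatMod.IsFlatOver f (In 0))
    (hIs : TFOne.IsTF1 Xs ((Scheme.Modules.pullback i).obj (In 0))) (Y Y' : Set Xs) (hY'u : IsUnion Y')
    (hY' : ∀ η ∈ genericPoints (Xs : Type u), (η ∈ Y' ↔ η ∉ Y)) (G G' : ℕ → Xs.Modules)
    (π : ∀ n, (Scheme.Modules.pullback i).obj (In n) ⟶ G n) (π' : ∀ n, (Scheme.Modules.pullback i).obj (In n) ⟶ G' n)
    (hG : ∀ n, TFOne.IsQuotOn Xs ((Scheme.Modules.pullback i).obj (In n)) Y (G n) (π n))
    (hG' : ∀ n, TFOne.IsQuotOn Xs ((Scheme.Modules.pullback i).obj (In n)) Y' (G' n) (π' n))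
    (hstep : ∀ n, In (n + 1) = kernel ((Scheme.Modules.pullbackPushforwardAdjunction i).unit.app (In n) ≫
      (Scheme.Modules.pushforward i).map (π n)))
    (hdec : ∀ n, IsIso (biprod.lift (π n) (π' n))) :
    ∃ (F : X.Modules) (p : In 0 ⟶ F), Epi p ∧ FlatMod.IsFlatOver f F ∧
      ∃ e : (Scheme.Modules.pullback i).obj F ≅ G 0, (Scheme.Modules.pullback i).map p ≫ e.hom = π 0 := by
  letI : X.Over (Spec (CommRingCat.of R)) := ⟨f⟩
  haveI : IsProper (X ↘ Spec (CommRingCat.of R)) := ‹IsProper f›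
  haveI : IsNoetherianRing R := inferInstance
  haveI := isClosedImmersion_special f hsq
  haveI : IsLocallyNoetherian X := LocallyOfFiniteType.isLocallyNoetherian f
  haveI : CompactSpace X := QuasiCompact.compactSpace_of_compactSpace f
  haveI : IsNoetherian X := {}
  obtain ⟨t, hirr⟩ := IsDiscreteValuationRing.exists_irreducible R
  have ht : IsLocalRing.maximalIdeal R = Ideal.span {t} := hirr.maximalIdeal_eq
  let L := In 0
  have hstep' : ∀ n, In (n + 1) = kernel (psiMap (π n)) := fun n => by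
    rw [hstep n, unit_comp_eq_psiMap (π n)]
  let inc : ∀ n, In (n + 1) ⟶ In n := fun n => eqToHom (hstep' n) ≫ kernel.ι _
  haveI hincmono : ∀ n, Mono (inc n) := fun n => mono_comp _ _
  let c : ∀ n, In n ⟶ L := fun n => Nat.rec (motive := fun n => In n ⟶ L) (𝟙 _) (fun n g => inc n ≫ g) n
  have hc : ∀ n, c (n + 1) = inc n ≫ c n := fun n => rfl
  haveI hcmono : ∀ n, Mono (c n) := fun n => by
    induction n with
    | zero => exact inferInstanceAs (Mono (𝟙 L))
    | succ n ih => rw [hc]; exact mono_comp _ _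
  have hτ : ∀ n, ∀ (s : R), s ≠ 0 → ∀ (y : X) (a b : (In n).presheaf.stalk y),
      tauAt f s y • a = tauAt f s y • b → a = b := fun n s hs y a b h =>
    QCoh.stalkLin_injective (c n) y (tauAt_smul_injective f hIf hs y (by rw [← map_smul, h, map_smul]))
  have hdata : ∀ n, Coh.IsCoh (In n) ∧ TFOne.IsTF1 Xs ((Scheme.Modules.pullback i).obj (In n)) := fun n => by
    induction n with
    | zero => exact ⟨hIc, hIs⟩
    | succ n ih =>
      obtain ⟨h1, h2, -⟩ := exists_modification_seq' f hsq ih.1 (hτ n) ih.2 (hG n)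
      rw [hstep n]
      exact ⟨h2, h1⟩
  let mem : ℕ → ∀ y : X, L.presheaf.stalk y → Prop := fun n y x => ∃ a, stalkLin (c n) y a = x
  have P1 : ∀ n y x, mem (n + 1) y x → mem n y x := fun n y x ⟨a, ha⟩ =>
    ⟨stalkLin (inc n) y a, by simp only [← ha, hc, inc, QCoh.stalkLin_comp]⟩
  have hlift : ∀ n y (a : (In n).presheaf.stalk y),
      stalkLin (psiMap (π n)) y a = 0 → mem (n + 1) y (stalkLin (c n) y a) := by
    intro n y a ha
    obtain ⟨b, rfl⟩ := exists_stalk_kernel _ y ha
    refine ⟨stalkLin (eqToHom (hstep' n).symm) y b, ?_⟩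
    rw [hc, QCoh.stalkLin_comp, ← QCoh.stalkLin_comp (eqToHom (hstep' n).symm) (inc n), eqToHom_trans_assoc,
      eqToHom_refl, Category.id_comp]
  have P3 : ∀ n y x, y ∉ Set.range i → mem n y x := by
    intro n y x hy
    induction n with
    | zero => exact ⟨x, QCoh.stalkLin_id _ _ _⟩
    | succ n ih =>
      obtain ⟨a, rfl⟩ := ih
      refine hlift n y a ?_
      haveI : Subsingleton (((Scheme.Modules.pushforward i).obj (G n)).presheaf.stalk y) :=
        QCoh.stalk_subsingleton_of_notMem fun h => hy (QCoh.support_pushforward_subset_range i (G n) h)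
      exact Subsingleton.elim _ _
  have P2 : ∀ n y x, mem n y x → mem (n + 1) y (tauAt f t y • x) := by
    intro n y x hx
    by_cases hy : y ∈ Set.range i
    · obtain ⟨z, rfl⟩ := hy
      obtain ⟨a, rfl⟩ := hx
      rw [← map_smul]
      exact hlift n _ _ ((psi_eq_zero_iff hsq (π n) z _).2 (by
        rw [(uS_eq_zero_iff f hsq ht _ z _).2 ⟨a, rfl⟩, map_zero]))
    · exact P3 _ _ _ hy
  have step : ∀ n z, _ := fun n z => tower_step hsq ht (hdata n).1 (hτ n) (hdata n).2 (hG n) (hG' (n + 1)) hY'u hY'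
    (hdec (n + 1)) (hstep' n) (hstep' (n + 1)) z
  have P4 : ∀ n y x, mem (n + 1) y (tauAt f t y • x) → mem n y x := by
    intro n
    induction n with
    | zero => exact fun y x _ => ⟨x, QCoh.stalkLin_id _ _ _⟩
    | succ n ih =>
      intro y x hx
      by_cases hy : y ∈ Set.range i
      · obtain ⟨z, rfl⟩ := hy
        obtain ⟨a', ha'⟩ := ih _ x (P1 _ _ _ hx)
        obtain ⟨a, ha⟩ := hx
        obtain ⟨x', hx'⟩ := (step n z).1 a' a (QCoh.stalkLin_injective (c n) (i z) (by
          rw [map_smul, ha', ← ha]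
          simp only [hc, inc, QCoh.stalkLin_comp]))
        exact ⟨x', by rw [hc, QCoh.stalkLin_comp, ← ha']; exact congrArg _ hx'⟩
      · exact P3 _ _ _ hy
  have P5 : ∀ n y x, mem n y x → ∃ b w, mem (n + 1) y b ∧ x = b + tauAt f (t ^ n) y • w := by
    intro n
    induction n with
    | zero =>
      intro y x _
      exact ⟨0, x, ⟨0, map_zero _⟩, by rw [zero_add, pow_zero, tauAt, map_one, map_one, one_smul]⟩
    | succ n ih =>
      intro y x hx
      by_cases hy : y ∈ Set.range i
      · obtain ⟨z, rfl⟩ := hy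
        obtain ⟨a, rfl⟩ := hx
        obtain ⟨x1, b', hb'⟩ := (step n z).2 a
        obtain ⟨b, w, hb, hw⟩ := ih (i z) (stalkLin (c n) (i z) x1) ⟨x1, rfl⟩
        obtain ⟨a1, ha1⟩ := P2 _ _ _ hb
        refine ⟨stalkLin (c (n + 2)) (i z) (a1 + b'), w, ⟨_, rfl⟩, ?_⟩
        rw [map_add, ha1, show tauAt f (t ^ (n + 1)) (i z) = tauAt f t (i z) * tauAt f (t ^ n) (i z) by
          rw [tauAt, tauAt, tauAt, pow_succ', map_mul, map_mul], mul_smul, hc, QCoh.stalkLin_comp,
          show stalkLin (inc n) (i z) a = _ from hb', map_add, map_smul, hw, smul_add,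
          hc (n + 1), hc n, QCoh.stalkLin_comp, QCoh.stalkLin_comp, QCoh.stalkLin_comp]
        simp only [inc, QCoh.stalkLin_comp]
        abel
      · exact ⟨x, 0, P3 _ _ _ hy, by rw [smul_zero, add_zero]⟩
  have P6 : ∀ n y x, mem n y (tauAt f (t ^ n) y • x) := by
    intro n y x
    induction n with
    | zero => exact ⟨tauAt f (t ^ 0) y • x, QCoh.stalkLin_id _ _ _⟩
    | succ n ih =>
      have := P2 _ _ _ ih
      rwa [← mul_smul, show tauAt f t y * tauAt f (t ^ n) y = tauAt f (t ^ (n + 1)) y by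
        rw [tauAt, tauAt, tauAt, pow_succ', map_mul, map_mul]] at this
  -- the formal quotient
  let I := IsLocalRing.maximalIdeal R
  have htI : t ∈ I := by
    show t ∈ IsLocalRing.maximalIdeal R
    rw [ht]
    exact Ideal.mem_span_singleton_self t
  have hI : ∀ n a, a ∈ I ^ n → ∃ r, a = t ^ n * r := fun n a ha => by
    rw [show I = Ideal.span {t} from ht, Ideal.span_singleton_pow] at ha
    exact Ideal.mem_span_singleton'.1 ha |>.imp fun r hr => by rw [← hr, mul_comm]
  let Q : ℕ → X.Modules := fun n => cokernel (c (n + 1))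
  let q : ∀ n, L ⟶ Q n := fun n => cokernel.π (c (n + 1))
  have hq0 : ∀ n y x, stalkLin (q n) y x = 0 ↔ mem (n + 1) y x := fun n y x =>
    ⟨fun h => FormalExist7.exists_cokernel_preimage (c (n + 1)) y h,
      fun ⟨a, ha⟩ => by rw [← ha, ← QCoh.stalkLin_comp, cokernel.condition, stalkLin_zero]⟩
  have hqe : ∀ n, Epi (q n) := fun n => inferInstance
  let T : ∀ n, Q (n + 1) ⟶ Q n := fun n => cokernel.desc (c (n + 2)) (q n)
    (by rw [hc, Category.assoc, cokernel.condition, comp_zero])
  let Φ : ℕᵒᵖ ⥤ X.Modules := Functor.ofOpSequence T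
  have hΦ : ∀ n, Φ.map (homOfLE (Nat.le_succ n)).op = T n := Functor.ofOpSequence_map_homOfLE_succ T
  have hkill : ∀ n, Formal.KilledBy (I ^ (n + 1)) (Q n) := fun n a ha => by
    haveI := hqe n
    rw [← cancel_epi (q n), ← FormalSys.smulMod_naturality, comp_zero]
    obtain ⟨r, rfl⟩ := hI _ _ ha
    refine (OX.eq_zero_iff _).2 fun y => ModuleCat.hom_ext (LinearMap.ext fun v => ?_)
    show stalkLin (Formal.smulMod R L (t ^ (n + 1) * r) ≫ q n) y v = 0
    rw [QCoh.stalkLin_comp, FormalFun.stalkLin_smulMod, map_mul, mul_smul, hq0]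
    exact P6 _ _ _
  have hcohQ : ∀ n, Coh.IsCoh (Q n) := fun n => QCoh.isCoh_cokernel _ (hdata (n + 1)).1 hIc
  have hΦcoh : Formal.IsCohFormal I Φ := by
    refine ⟨hcohQ, hkill, fun n => ?_⟩
    show FormalSys.IsQuot (I ^ (n + 1)) _
    rw [hΦ]
    let J := FormalSys.IsQuot.cokernelπ (I ^ (n + 1)) (Q (n + 1))
    have h0 : c (n + 1) ≫ q (n + 1) ≫ cokernel.π (Formal.smulFamily (I ^ (n + 1)) (Q (n + 1))) = 0 := by
      refine (OX.eq_zero_iff _).2 fun y => ModuleCat.hom_ext (LinearMap.ext fun v => ?_)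
      show stalkLin (c (n + 1) ≫ q (n + 1) ≫ _) y v = 0
      obtain ⟨b, w, hb, hw⟩ := P5 (n + 1) y _ ⟨v, rfl⟩
      rw [QCoh.stalkLin_comp, QCoh.stalkLin_comp, hw, map_add, (hq0 (n + 1) y b).2 hb, zero_add, map_smul,
        map_smul]
      exact FormalExist7.killedBy_stalk J.killedBy y (Ideal.pow_mem_pow htI _) _
    haveI : Epi (T n) := by
      haveI := hqe n
      exact epi_of_epi_fac (cokernel.π_desc (c (n + 2)) (q n) _)
    refine FormalSys.IsQuot.mk' (fun a ha => ?_) ⟨cokernel.desc (c (n + 1)) _ h0, ?_⟩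
    · show Formal.smulMod R (Q (n + 1)) a ≫ T n = 0
      rw [FormalSys.smulMod_naturality, hkill n a ha, comp_zero]
    · show T n ≫ cokernel.desc (c (n + 1)) _ h0 = _
      rw [← cancel_epi (q (n + 1))]
      simp only [T, q, cokernel.π_desc_assoc, cokernel.π_desc]
      rfl
  obtain ⟨M, hM, ⟨e⟩⟩ := FormalExist7.existence_of_proper I Φ hΦcoh
  let θ : ∀ n, (Formal.completion I L).obj (op n) ⟶ Φ.obj (op n) := fun n =>
    cokernel.desc _ (q n) (FormalSys.smulFamily_comp_eq_zero (q n) (hkill n))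
  have hθ : ∀ n, Formal.modPowπ I (n + 1) L ≫ θ n = q n := fun n => cokernel.π_desc _ _ _
  have hnat : ∀ n, (Formal.completion I L).map (homOfLE (Nat.le_succ n)).op ≫ θ n =
      θ (n + 1) ≫ Φ.map (homOfLE (Nat.le_succ n)).op := fun n => by
    haveI := (FormalSys.IsQuot.modPowπ I (n + 1 + 1) L).epi
    rw [hΦ]
    refine (cancel_epi (Formal.modPowπ I (n + 1 + 1) L)).1 ?_
    refine (FormalSys.completion_map_succ_assoc L n (θ n)).trans ((hθ n).trans ?_)
    rw [reassoc_of% (hθ (n + 1))]
    exact (cokernel.π_desc _ _ _).symm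
  obtain ⟨φ, hφ, -⟩ :=
    FormalExist7.existsUnique_hom_of_proper I L M hIc hM (FormalSys.natTrans θ hnat ≫ e.inv)
  have hkey : ∀ n y x, stalkLin (Formal.modPowπ I (n + 1) M) y (stalkLin φ y x) =
      stalkLin (e.inv.app (op n)) y (stalkLin (q n) y x) := fun n y x => by
    have h2 : φ ≫ Formal.modPowπ I (n + 1) M = q n ≫ e.inv.app (op n) := by
      rw [← hφ n]
      show Formal.modPowπ I (n + 1) L ≫ θ n ≫ e.inv.app (op n) = _
      exact (Category.assoc _ _ _).symm.trans (congrArg (· ≫ _) (hθ n))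
    exact (QCoh.stalkLin_comp φ _ y x).symm.trans
      ((congrArg (fun g => stalkLin g y x) h2).trans (QCoh.stalkLin_comp _ _ y x))
  have hkerM : ∀ n y v, stalkLin (Formal.modPowπ I n M) y v = 0 ↔ ∃ w, v = tauAt f (t ^ n) y • w := by
    intro n y v
    rw [← LinearMap.mem_ker, FormalFun.ker_stalkLin_of_isQuot (FormalSys.IsQuot.modPowπ I n M),
      show I = Ideal.span {t} from ht, Ideal.span_singleton_pow, Ideal.map_span, Set.image_singleton,
      Submodule.ideal_span_singleton_smul, Submodule.mem_smul_pointwise_iff_exists]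
    exact ⟨fun ⟨w, _, hw⟩ => ⟨w, hw.symm⟩, fun ⟨w, hw⟩ => ⟨w, trivial, hw.symm⟩⟩
  haveI : Epi φ := by
    apply Preadditive.epi_of_isZero_cokernel
    have hC : Coh.IsCoh (cokernel φ) := QCoh.isCoh_cokernel φ hIc hM
    have hcl := QCoh.isClosed_support_of_isCoh hC
    have hs : FormalExist7.ProperSupp R (cokernel φ) := ⟨hcl, inferInstance⟩
    have h0 : CohB1.support (Formal.modPow I 1 (cokernel φ)) = ∅ :=
      Set.eq_empty_of_forall_notMem fun y => notMem_support_of_forall fun w => by
        haveI := (FormalSys.IsQuot.modPowπ I 1 (cokernel φ)).epi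
        obtain ⟨u, rfl⟩ := QCoh.stalkLin_surjective (Formal.modPowπ I 1 (cokernel φ)) y w
        obtain ⟨v, rfl⟩ := QCoh.stalkLin_surjective (cokernel.π φ) y u
        obtain ⟨x, hx⟩ := QCoh.stalkLin_surjective (q 0) y (stalkLin (e.hom.app (op 0)) y
          (stalkLin (Formal.modPowπ I 1 M) y v))
        have hk : stalkLin (Formal.modPowπ I 1 M) y (v - stalkLin φ y x) = 0 := by
          rw [map_sub, hkey, hx, ← QCoh.stalkLin_comp (e.hom.app (op 0)), Iso.hom_inv_id_app, QCoh.stalkLin_id]
          exact sub_self _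
        obtain ⟨w, hw⟩ := (hkerM 1 y _).1 hk
        have h1 : stalkLin (cokernel.π φ) y (stalkLin φ y x) = 0 := by
          rw [← QCoh.stalkLin_comp, cokernel.condition, stalkLin_zero]
        rw [show v = stalkLin φ y x + tauAt f (t ^ 1) y • w by rw [← hw, add_sub_cancel], map_add, h1, zero_add,
          map_smul, map_smul]
        exact FormalExist7.killedBy_stalk (FormalSys.killedBy_modPow 1 _) y
          (Ideal.pow_mem_pow htI _) _
    have hemp := FormalExist7.support_eq_empty_of_properSupp I hC hs h0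
    rw [IsZero.iff_id_eq_zero]
    exact (OX.eq_zero_iff _).2 fun y => ModuleCat.hom_ext (LinearMap.ext fun v => by
      haveI : Subsingleton ((cokernel φ).presheaf.stalk y) :=
        QCoh.stalk_subsingleton_of_notMem (by rw [hemp]; exact Set.notMem_empty y)
      exact Subsingleton.elim (α := (cokernel φ).presheaf.stalk y) _ _)
  have hτM : ∀ (y : X) (v : M.presheaf.stalk y), tauAt f t y • v = 0 → v = 0 := by
    intro y v hv
    by_cases hu : IsUnit (tauAt f t y)
    · exact hu.smul_eq_zero.1 hv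
    haveI := hM.1
    haveI := QCoh.stalk_finite M hM y
    haveI : IsNoetherianRing (X.presheaf.stalk y) := inferInstance
    have hmemall : ∀ n, v ∈ (Ideal.span {tauAt f t y}) ^ n •
        (⊤ : Submodule (X.presheaf.stalk y) (M.presheaf.stalk y)) := by
      intro n
      obtain ⟨x, hx⟩ := QCoh.stalkLin_surjective φ y v
      rcases n with _ | n
      · simp
      have h1 : stalkLin (q (n + 1)) y (tauAt f t y • x) = 0 := by
        apply QCoh.stalkLin_injective (e.inv.app (op (n + 1))) y
        rw [← hkey, map_smul, hx, hv, map_zero, map_zero]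
      have h2 : stalkLin (Formal.modPowπ I (n + 1) M) y v = 0 := by
        rw [← hx, hkey, (hq0 n y x).2 (P4 _ _ _ ((hq0 (n + 1) y _).1 h1)), map_zero]
      obtain ⟨w, rfl⟩ := (hkerM (n + 1) y v).1 h2
      refine Submodule.smul_mem_smul ?_ trivial
      rw [Ideal.span_singleton_pow, tauAt, tauAt, map_pow, map_pow]
      exact Ideal.mem_span_singleton_self _
    have hne : Ideal.span {tauAt f t y} ≠ ⊤ := fun h => hu (Ideal.span_singleton_eq_top.1 h)
    have := (Submodule.mem_iInf _).2 hmemall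
    rwa [Ideal.iInf_pow_smul_eq_bot_of_isLocalRing _ hne, Submodule.mem_bot] at this
  have hflat : FlatMod.IsFlatOver f M := by
    intro y
    let S := (Spec (CommRingCat.of R)).presheaf.stalk (f y)
    letI : Module S (M.presheaf.stalk y) := FlatMod.moduleStalkOver f M y
    let ρ : R →+* S := ((Spec (CommRingCat.of R)).presheaf.germ ⊤ (f y) trivial).hom.comp
      (Scheme.ΓSpecIso (CommRingCat.of R)).inv.hom
    have hρ : ∀ r, (f.stalkMap y).hom (ρ r) = tauAt f r y := fun r =>
      Scheme.Hom.germ_stalkMap_apply f ⊤ y trivial _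
    letI : Algebra R S := ρ.toAlgebra
    haveI : IsLocalization.AtPrime S (f y : PrimeSpectrum R).asIdeal :=
      StructureSheaf.IsLocalization.to_stalk R (f y)
    letI : Module R (M.presheaf.stalk y) := Module.compHom _ ρ
    haveI : IsScalarTower R S (M.presheaf.stalk y) := ⟨fun a b v => mul_smul (ρ a) b v⟩
    haveI : Module.IsTorsionFree R (M.presheaf.stalk y) := by
      refine Module.isTorsionFree_iff_smul_eq_zero.2 fun r v hrv => ?_
      by_contra hne
      push_neg at hne
      obtain ⟨n, u, rfl⟩ := IsDiscreteValuationRing.eq_unit_mul_pow_irreducible hne.1 hirr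
      have h1 : tauAt f ((u : R) * t ^ n) y • v = 0 := by rw [← hρ]; exact hrv
      rw [show tauAt f ((u : R) * t ^ n) y = tauAt f (u : R) y * tauAt f t y ^ n by
        rw [tauAt, tauAt, tauAt, map_mul, map_mul, map_pow, map_pow], mul_smul] at h1
      have hu : IsUnit (tauAt f (u : R) y) := (u.isUnit.map (Coh.toGlobal f)).map _
      have h2 := hu.smul_eq_zero.1 h1
      apply hne.2
      clear h1 hrv hne
      induction n generalizing v with
      | zero => simpa using h2
      | succ n ih =>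
        rw [pow_succ, mul_smul] at h2
        exact hτM y v (ih _ h2)
    exact (Module.flat_iff_of_isLocalization S (f y : PrimeSpectrum R).asIdeal.primeCompl
      (M.presheaf.stalk y)).2 inferInstance
  refine ⟨M, φ, inferInstance, hflat, ?_⟩
  haveI : Epi ((Scheme.Modules.pullback i).map φ) := Functor.map_epi _ _
  haveI : Epi (π 0) := (hG 0).1
  have hker : ∀ z v, stalkLin ((Scheme.Modules.pullback i).map φ) z v = 0 ↔ stalkLin (π 0) z v = 0 := by
    intro z v
    obtain ⟨x, rfl⟩ := uS_surjective i L z v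
    rw [QuotTan26.uS_natural, uS_eq_zero_iff f hsq ht M z, ← psi_eq_zero_iff hsq (π 0) z x]
    have e1 : (∃ w, stalkLin φ (i z) x = tauAt f t (i z) • w) ↔
        stalkLin (Formal.modPowπ I (0 + 1) M) (i z) (stalkLin φ (i z) x) = 0 := by
      rw [hkerM, zero_add, pow_one]
    rw [e1, hkey]
    constructor
    · intro h
      obtain ⟨a, ha⟩ := (hq0 0 _ x).1 (QCoh.stalkLin_injective (e.inv.app (op 0)) _ (h.trans (map_zero _).symm))
      rw [← ha, ← QCoh.stalkLin_comp]
      show stalkLin (((eqToHom (hstep' 0) ≫ kernel.ι _) ≫ 𝟙 (In 0)) ≫ psiMap (π 0)) (i z) a = 0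
      simp only [Category.assoc, Category.id_comp, kernel.condition, comp_zero, stalkLin_zero]
    · intro h
      have h1 : mem 1 (i z) x := by
        obtain ⟨a, ha⟩ := hlift 0 _ x h
        exact ⟨a, ha.trans (QCoh.stalkLin_id _ _ _)⟩
      rw [(hq0 0 _ x).2 h1, map_zero]
  have hdesc : kernel.ι ((Scheme.Modules.pullback i).map φ) ≫ π 0 = 0 := by
    refine (OX.eq_zero_iff _).2 fun z => ModuleCat.hom_ext (LinearMap.ext fun v => ?_)
    show stalkLin (kernel.ι ((Scheme.Modules.pullback i).map φ) ≫ π 0) z v = 0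
    rw [QCoh.stalkLin_comp]
    exact (hker z _).1 (by rw [← QCoh.stalkLin_comp, kernel.condition, stalkLin_zero])
  let η := Abelian.epiDesc ((Scheme.Modules.pullback i).map φ) (π 0) hdesc
  have hη : (Scheme.Modules.pullback i).map φ ≫ η = π 0 := Abelian.comp_epiDesc _ _ _
  haveI : Epi η := epi_of_epi_fac hη
  haveI : Mono η := (OX.mono_iff η).2 fun z => (ModuleCat.mono_iff_injective _).2
    ((injective_iff_map_eq_zero (stalkLin η z)).2 fun v hv => by
      obtain ⟨u, rfl⟩ := QCoh.stalkLin_surjective ((Scheme.Modules.pullback i).map φ) z v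
      exact (hker z u).2 (by rw [← hη, QCoh.stalkLin_comp]; exact hv))
  haveI : IsIso η := isIso_of_mono_of_epi η
  exact ⟨asIso η, hη⟩

end GrothLib.TFSimple15
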